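/-
Differentials of a localised quotient at its residue field.
-/
import Mathlib
import Groth.Agent.EGA41Adic.Prime
import Groth.Agent.S2451

set_option autoImplicit false
set_option linter.style.haveILetI false
set_option backward.isDefEq.respectTransparency false
universe u

open IsLocalRing TensorProduct

namespace Groth.Agent.NagataJac

noncomputable section

attribute [local instance 2000] Ring.toIntAlgebra

/-- Adic formal smoothness over an intermediate formally smooth field. -/
theorem isAdicFormallySmooth_trans {k K₀ A : Type u} [Field k] [Field K₀] [CommRing A] [Algebra k K₀]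
    [Algebra.IsGeometricallyReduced k K₀] [Algebra k A] [Algebra K₀ A] [IsScalarTower k K₀ A] {𝔫 : Ideal A}
    (h : CAlgX.IsAdicFormallySmooth K₀ A 𝔫) : CAlgX.IsAdicFormallySmooth k A 𝔫 := by
  intro E _ _ J hJ u hu
  haveI : Algebra.FormallySmooth k K₀ := Groth.Agent.S2451.result.mpr inferInstance
  let v₀ : K₀ →ₐ[k] E := Algebra.FormallySmooth.lift J ⟨2, hJ⟩ (u.comp (IsScalarTower.toAlgHom k K₀ A))
  have hv₀ : ∀ a, Ideal.Quotient.mk J (v₀ a) = u (algebraMap K₀ A a) := fun a =>
    Algebra.FormallySmooth.mk_lift J ⟨2, hJ⟩ (u.comp (IsScalarTower.toAlgHom k K₀ A)) a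
  letI : Algebra K₀ E := v₀.toRingHom.toAlgebra
  let uK : A →ₐ[K₀] E ⧸ J := { u.toRingHom with commutes' := fun a => (hv₀ a).symm }
  obtain ⟨v, hv⟩ := h E J hJ uK hu
  refine ⟨{ v.toRingHom with commutes' := fun a => ?_ }, AlgHom.ext fun x => DFunLike.congr_fun hv x⟩
  show v (algebraMap k A a) = algebraMap k E a
  rw [IsScalarTower.algebraMap_apply k K₀ A, v.commutes]
  exact v₀.commutes a

/-- Functoriality of differentials along a tower over the integers. -/
theorem map_map_int {k A X : Type u} [CommRing k] [CommRing A] [CommRing X] [Algebra k A] [Algebra A X] [Algebra k X]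
    [IsScalarTower k A X] (ω : Ω[k⁄ℤ]) :
    KaehlerDifferential.map ℤ ℤ A X (KaehlerDifferential.map ℤ ℤ k A ω) = KaehlerDifferential.map ℤ ℤ k X ω := by
  have hω : ω ∈ Submodule.span k (Set.range (KaehlerDifferential.D ℤ k)) := by
    rw [KaehlerDifferential.span_range_derivation]; trivial
  induction hω using Submodule.span_induction with
  | mem x hx =>
    obtain ⟨a, rfl⟩ := hx
    simp [← IsScalarTower.algebraMap_apply]
  | zero => simp
  | add x y _ _ hx hy => simp only [map_add, hx, hy]
  | smul c x _ hx =>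
    rw [map_smul (KaehlerDifferential.map ℤ ℤ k A), map_smul (KaehlerDifferential.map ℤ ℤ k X),
      ← algebraMap_smul A c (KaehlerDifferential.map ℤ ℤ k A x), map_smul, hx, algebraMap_smul]

/-- Any field receiving the local ring surjectively computes independence at the residue field. -/
theorem indep_residue_iff {k X L : Type u} [Field k] [CommRing X] [IsLocalRing X] [Algebra k X] [Field L] [Algebra X L]
    (h : Function.Surjective (algebraMap X L)) :
    LinearIndependent (ResidueField X) (EGA41Adic.fam k X (ResidueField X)) ↔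
      LinearIndependent L (EGA41Adic.fam k X L) := by
  rw [← EGA41Adic.injective_iff_indep (k := k) (A := X) (ResidueField X),
    ← EGA41Adic.injective_iff_indep (k := k) (A := X) L]
  have hker : RingHom.ker (algebraMap X L) = maximalIdeal X :=
    IsLocalRing.eq_maximalIdeal (RingHom.ker_isMaximal_of_surjective _ h)
  let l : ResidueField X →ₗ[X] L := Submodule.liftQ (maximalIdeal X) (Algebra.linearMap X L)
    fun x hx => by
      rw [← hker] at hx
      exact hx
  have hl : Function.Bijective l := by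
    refine ⟨LinearMap.ker_eq_bot.mp (Submodule.ker_liftQ_eq_bot _ _ _ fun x hx => ?_), fun y => ?_⟩
    · rw [← hker]; exact hx
    · obtain ⟨x, rfl⟩ := h y
      exact ⟨Submodule.Quotient.mk x, rfl⟩
  let e := LinearEquiv.ofBijective l hl
  let f := KaehlerDifferential.mapBaseChange ℤ k X
  have hc : f.lTensor L ∘ₗ (TensorProduct.congr e (LinearEquiv.refl X (X ⊗[k] Ω[k⁄ℤ]))).toLinearMap =
      (TensorProduct.congr e (LinearEquiv.refl X (Ω[X⁄ℤ]))).toLinearMap ∘ₗ f.lTensor (ResidueField X) :=
    TensorProduct.ext' fun a b => by simp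
  have hc' := congrArg DFunLike.coe hc
  simp only [LinearMap.coe_comp, LinearEquiv.coe_coe] at hc'
  constructor
  · intro hi
    have := ((TensorProduct.congr e (LinearEquiv.refl X (Ω[X⁄ℤ]))).injective.comp hi)
    rw [← hc'] at this
    exact (Function.Injective.of_comp_iff' _ (LinearEquiv.bijective _)).mp this
  · intro hi
    have := hi.comp (TensorProduct.congr e (LinearEquiv.refl X (X ⊗[k] Ω[k⁄ℤ]))).injective
    rw [hc'] at this
    exact Function.Injective.of_comp this

variable {A : Type u} [CommRing A] (q 𝔭 : Ideal A) [𝔭.IsPrime] [(𝔭.map (Ideal.Quotient.mk q)).IsPrime]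

/-- The localised quotient. -/
abbrev Bq := Localization.AtPrime (𝔭.map (Ideal.Quotient.mk q))

/-- The localised quotient surjects onto the residue field of the prime. -/
theorem exists_to_residueField (hq : q ≤ 𝔭) :
    ∃ h : Bq q 𝔭 →+* 𝔭.ResidueField, Function.Surjective h ∧
      ∀ a, h (algebraMap A (Bq q 𝔭) a) = algebraMap A 𝔭.ResidueField a := by
  let L := 𝔭.ResidueField
  let pb := 𝔭.map (Ideal.Quotient.mk q)
  let g0 : A ⧸ q →+* L := Ideal.Quotient.lift q (algebraMap A L) fun a ha =>
    Ideal.algebraMap_residueField_eq_zero.mpr (hq ha)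
  have hg : ∀ a, Ideal.Quotient.mk q a ∈ pb ↔ a ∈ 𝔭 := fun a => Ideal.mem_quotient_iff_mem hq
  let h : Bq q 𝔭 →+* L := IsLocalization.lift (M := pb.primeCompl) (g := g0) fun t => by
    obtain ⟨a, ha⟩ := Ideal.Quotient.mk_surjective (t : A ⧸ q)
    rw [← ha]
    exact isUnit_iff_ne_zero.mpr fun h0 => t.2 (ha ▸ (hg a).mpr (Ideal.algebraMap_residueField_eq_zero.mp h0))
  refine ⟨h, fun y => ?_, fun a => ?_⟩
  · obtain ⟨x, rfl⟩ := residue_surjective (R := Localization.AtPrime 𝔭) y
    obtain ⟨a, t, rfl⟩ := IsLocalization.exists_mk'_eq 𝔭.primeCompl x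
    refine ⟨IsLocalization.mk' (Bq q 𝔭) (Ideal.Quotient.mk q a)
      (⟨Ideal.Quotient.mk q t, fun ht => t.2 ((hg t).mp ht)⟩ : pb.primeCompl), ?_⟩
    rw [IsLocalization.lift_mk'_spec]
    show algebraMap A L a = algebraMap A L t * _
    rw [IsScalarTower.algebraMap_apply A (Localization.AtPrime 𝔭) L a,
      IsScalarTower.algebraMap_apply A (Localization.AtPrime 𝔭) L t, ← IsLocalization.mk'_spec' (Localization.AtPrime 𝔭) a t,
      map_mul]
    rfl
  · rw [IsScalarTower.algebraMap_apply A (A ⧸ q) (Bq q 𝔭), IsLocalization.lift_eq]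
    rfl

/-- The span of the differentials of the ideal at the residue field. -/
abbrev relSpan : Submodule 𝔭.ResidueField (𝔭.ResidueField ⊗[A] Ω[A⁄ℤ]) :=
  Submodule.span 𝔭.ResidueField
    ((fun x : A => (1 : 𝔭.ResidueField) ⊗ₜ[A] KaehlerDifferential.D ℤ A x) '' (q : Set A))

/-- The comparison of differentials at the residue field: its kernel comes from the ideal. -/
theorem exists_psi {k : Type u} [Field k] [Algebra k A] (hq : q ≤ 𝔭) [Algebra (Bq q 𝔭) 𝔭.ResidueField]
    [IsScalarTower A (Bq q 𝔭) 𝔭.ResidueField] :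
    ∃ Ψ : 𝔭.ResidueField ⊗[A] Ω[A⁄ℤ] →ₗ[𝔭.ResidueField] 𝔭.ResidueField ⊗[Bq q 𝔭] Ω[Bq q 𝔭⁄ℤ],
      (∀ i, Ψ (EGA41Adic.fam k A 𝔭.ResidueField i) = EGA41Adic.fam k (Bq q 𝔭) 𝔭.ResidueField i) ∧
      (∀ x ∈ q, Ψ ((1 : 𝔭.ResidueField) ⊗ₜ[A] KaehlerDifferential.D ℤ A x) = 0) ∧
      ∀ w, Ψ w = 0 → w ∈ relSpan q 𝔭 := by
  let L := 𝔭.ResidueField
  let X := Bq q 𝔭
  let pb := 𝔭.map (Ideal.Quotient.mk q)
  haveI : IsScalarTower k A X := IsScalarTower.of_algebraMap_eq fun c => rfl
  let Ψ : L ⊗[A] Ω[A⁄ℤ] →ₗ[L] L ⊗[X] Ω[X⁄ℤ] :=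
    LinearMap.liftBaseChange L
      (((TensorProduct.mk X L (Ω[X⁄ℤ]) 1).restrictScalars A) ∘ₗ KaehlerDifferential.map ℤ ℤ A X)
  have hΨ : ∀ a, Ψ ((1 : L) ⊗ₜ[A] KaehlerDifferential.D ℤ A a) =
      (1 : L) ⊗ₜ[X] KaehlerDifferential.D ℤ X (algebraMap A X a) := fun a => by
    simp [Ψ]
  refine ⟨Ψ, fun i => ?_, fun x hx => ?_, fun w hw => ?_⟩
  · refine (LinearMap.liftBaseChange_tmul _ _ _ _).trans ((one_smul _ _).trans ?_)
    exact congrArg (fun z => (1 : L) ⊗ₜ[X] z) (map_map_int (k := k) (A := A) (X := X) _)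
  · rw [hΨ, IsScalarTower.algebraMap_apply A (A ⧸ q) X, Ideal.Quotient.algebraMap_eq,
      Ideal.Quotient.eq_zero_iff_mem.mpr hx, map_zero, map_zero, TensorProduct.tmul_zero]
  · let W := relSpan q 𝔭
    let V := (L ⊗[A] Ω[A⁄ℤ]) ⧸ W
    haveI : IsCentralScalar L V := ⟨fun c v => by
      obtain ⟨x, rfl⟩ := Submodule.Quotient.mk_surjective W v
      show Submodule.Quotient.mk (MulOpposite.op c • x) = Submodule.Quotient.mk (c • x)
      rw [op_smul_eq_smul]⟩
    let d : A → V := fun a => W.mkQ ((1 : L) ⊗ₜ[A] KaehlerDifferential.D ℤ A a)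
    let gA : A →+* TrivSqZeroExt L V :=
      { toFun := fun a => TrivSqZeroExt.inl (algebraMap A L a) + TrivSqZeroExt.inr (d a)
        map_one' := by ext <;> simp [d]
        map_zero' := by ext <;> simp [d]
        map_add' := fun a b => by ext <;> simp [d, TensorProduct.tmul_add, add_add_add_comm, add_assoc]
        map_mul' := fun a b => by
          ext
          · simp [d]
          · simp only [d, TrivSqZeroExt.snd_add, TrivSqZeroExt.snd_inl, TrivSqZeroExt.snd_inr, TrivSqZeroExt.snd_mul,
              TrivSqZeroExt.fst_add, TrivSqZeroExt.fst_inl, TrivSqZeroExt.fst_inr, zero_add, add_zero,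
              Derivation.leibniz, TensorProduct.tmul_add, map_add, op_smul_eq_smul]
            rw [TensorProduct.tmul_smul, TensorProduct.tmul_smul, ← algebraMap_smul L a, ← algebraMap_smul L b,
              map_smul, map_smul] }
    have hgA : ∀ a ∈ q, gA a = 0 := fun a ha => by
      refine TrivSqZeroExt.ext ?_ ?_
      · have h0 : algebraMap A L a = 0 := Ideal.algebraMap_residueField_eq_zero.mpr (hq ha)
        simp [gA, h0]
      · show (0 : V) + d a = 0
        rw [zero_add]
        exact (Submodule.Quotient.mk_eq_zero W).mpr (Submodule.subset_span ⟨a, ha, rfl⟩)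
    let g : X →+* TrivSqZeroExt L V := IsLocalization.lift (M := pb.primeCompl) (g := Ideal.Quotient.lift q gA hgA)
      fun t => by
        obtain ⟨a, ha⟩ := Ideal.Quotient.mk_surjective (t : A ⧸ q)
        rw [← ha, Ideal.Quotient.lift_mk, TrivSqZeroExt.isUnit_iff_isUnit_fst, isUnit_iff_ne_zero]
        intro h0
        have h1 : algebraMap A L a = 0 := by
          simpa only [gA, RingHom.coe_mk, MonoidHom.coe_mk, OneHom.coe_mk, TrivSqZeroExt.fst_add,
            TrivSqZeroExt.fst_inl, TrivSqZeroExt.fst_inr, add_zero] using h0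
        exact t.2 (ha ▸ Ideal.mem_map_of_mem _ (Ideal.algebraMap_residueField_eq_zero.mp h1))
    have hg : ∀ a, g (algebraMap A X a) = gA a := fun a => by
      rw [IsScalarTower.algebraMap_apply A (A ⧸ q) X, IsLocalization.lift_eq]
      rfl
    have hfst : ∀ x, (g x).fst = algebraMap X L x := fun x => by
      have := IsLocalization.ringHom_ext (R := A ⧸ q) pb.primeCompl
        (j := (TrivSqZeroExt.fstHom L L V).toRingHom.comp g) (k := algebraMap X L)
        (Ideal.Quotient.ringHom_ext (RingHom.ext fun a => by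
          show (g (algebraMap A X a)).fst = algebraMap X L (algebraMap A X a)
          rw [hg, ← IsScalarTower.algebraMap_apply A X L]
          simp [gA]))
      exact RingHom.congr_fun this x
    letI : Algebra ℤ X := Ring.toIntAlgebra X
    let δ : Derivation ℤ X V := Derivation.mk'
      (AddMonoidHom.toIntLinearMap (AddMonoidHom.mk' (fun x => (g x).snd) fun a b => by simp))
      fun a b => by
        show (g (a * b)).snd = a • (g b).snd + b • (g a).snd
        rw [map_mul, TrivSqZeroExt.snd_mul, op_smul_eq_smul, hfst, hfst, algebraMap_smul, algebraMap_smul]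
    let Θ : L ⊗[X] Ω[X⁄ℤ] →ₗ[L] V := δ.liftKaehlerDifferential.liftBaseChange L
    have key : Θ ∘ₗ Ψ = W.mkQ := by
      refine LinearMap.ext_on_range (v := fun a : A => (1 : L) ⊗ₜ[A] KaehlerDifferential.D ℤ A a) ?_ fun a => ?_
      · rw [eq_top_iff]
        rintro z -
        induction z with
        | zero => exact zero_mem _
        | add x y hx hy => exact add_mem hx hy
        | tmul l v =>
          have hv : v ∈ Submodule.span A (Set.range (KaehlerDifferential.D ℤ A)) := by
            rw [KaehlerDifferential.span_range_derivation]; trivial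
          induction hv using Submodule.span_induction with
          | mem x hx =>
            obtain ⟨a, rfl⟩ := hx
            rw [show l ⊗ₜ[A] KaehlerDifferential.D ℤ A a = l • ((1 : L) ⊗ₜ[A] KaehlerDifferential.D ℤ A a) by
              rw [TensorProduct.smul_tmul', smul_eq_mul, mul_one]]
            exact Submodule.smul_mem _ _ (Submodule.subset_span ⟨a, rfl⟩)
          | zero => rw [TensorProduct.tmul_zero]; exact zero_mem _
          | add x y _ _ hx hy => rw [TensorProduct.tmul_add]; exact add_mem hx hy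
          | smul c x _ hx =>
            rw [TensorProduct.tmul_smul, ← algebraMap_smul L c]
            exact Submodule.smul_mem _ _ hx
      · rw [LinearMap.comp_apply, hΨ, LinearMap.liftBaseChange_tmul, one_smul, Derivation.liftKaehlerDifferential_comp_D]
        show (g (algebraMap A X a)).snd = _
        rw [hg]
        simp [gA, d]
        rfl
    have := LinearMap.congr_fun key w
    rw [LinearMap.comp_apply, hw, map_zero] at this
    exact (Submodule.Quotient.mk_eq_zero W).mp this.symm

end

end Groth.Agent.NagataJac
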