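/-
The Jacobian criterion: from derivations to formal smoothness, and data from formal smoothness.
-/
import Mathlib
import Groth.Agent.NagataJac.Bridge
import Groth.Agent.EGA41Nagata.Cotangent
import Groth.Agent.CotT.RegQuot
import Groth.Agent.S4612

set_option autoImplicit false
set_option linter.style.haveILetI false
set_option backward.isDefEq.respectTransparency false
universe u

open IsLocalRing TensorProduct

namespace Groth.Agent.NagataJac

noncomputable section

attribute [local instance 2000] Ring.toIntAlgebra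

variable {A : Type u} [CommRing A] (q 𝔭 : Ideal A) [𝔭.IsPrime] [(𝔭.map (Ideal.Quotient.mk q)).IsPrime]

/-- The localisation surjects onto the localised quotient. -/
theorem exists_phi (hqp : q ≤ 𝔭) :
    ∃ φ : Localization.AtPrime 𝔭 →+* Bq q 𝔭, Function.Surjective φ ∧
      RingHom.ker φ = q.map (algebraMap A (Localization.AtPrime 𝔭)) := by
  let π := Ideal.Quotient.mk q
  let p := 𝔭
  let R := Localization.AtPrime p
  let pb := p.map π
  let Bp := Localization.AtPrime pb
  have hcomap : p = pb.comap π := by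
    rw [Ideal.comap_map_of_surjective _ Ideal.Quotient.mk_surjective, ← RingHom.ker_eq_comap_bot, Ideal.mk_ker,
      sup_eq_left.mpr hqp]
  have hmemp : ∀ a, π a ∈ pb ↔ a ∈ p := fun a => by rw [hcomap]; rfl
  let φ : R →+* Bp := Localization.localRingHom p pb π hcomap
  have hφa : ∀ a, φ (algebraMap A R a) = algebraMap _ Bp (π a) := fun a => Localization.localRingHom_to_map _ _ _ _ a
  have hφs : Function.Surjective φ := fun z => by
    obtain ⟨b, t, rfl⟩ := IsLocalization.exists_mk'_eq pb.primeCompl z
    obtain ⟨a, rfl⟩ := Ideal.Quotient.mk_surjective b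
    obtain ⟨t0, ht0⟩ := Ideal.Quotient.mk_surjective (t : A ⧸ q)
    refine ⟨IsLocalization.mk' R a (⟨t0, fun h => t.2 (ht0 ▸ (hmemp t0).mpr h)⟩ : p.primeCompl), ?_⟩
    rw [Localization.localRingHom_mk']
    congr 1
    exact Subtype.ext ht0
  have hφk : RingHom.ker φ = q.map (algebraMap A R) := by
    refine le_antisymm (fun z hz => ?_) (Ideal.map_le_iff_le_comap.mpr fun a ha => ?_)
    · obtain ⟨a, t, rfl⟩ := IsLocalization.exists_mk'_eq p.primeCompl z
      have h : φ (algebraMap A R a) = 0 := by
        rw [← IsLocalization.mk'_spec R a t, map_mul, RingHom.mem_ker.mp hz, zero_mul]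
      rw [hφa, IsLocalization.map_eq_zero_iff pb.primeCompl Bp] at h
      obtain ⟨⟨u, hu⟩, hua⟩ := h
      obtain ⟨u0, rfl⟩ := Ideal.Quotient.mk_surjective u
      rw [← map_mul, Ideal.Quotient.eq_zero_iff_mem] at hua
      have hu0 : IsUnit (algebraMap A R u0) := IsLocalization.map_units R
        (⟨u0, fun h => hu ((hmemp u0).mpr h)⟩ : p.primeCompl)
      have h1 : algebraMap A R a ∈ q.map (algebraMap A R) := by
        refine (Ideal.unit_mul_mem_iff_mem (q.map (algebraMap A R)) hu0).mp ?_
        rw [← map_mul]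
        exact Ideal.mem_map_of_mem _ hua
      rw [← IsLocalization.mk'_spec R a t] at h1
      exact (Ideal.mul_unit_mem_iff_mem _ (IsLocalization.map_units R t)).mp h1
    · show φ (algebraMap A R a) = 0
      rw [hφa, Ideal.Quotient.eq_zero_iff_mem.mpr ha, map_zero]
  exact ⟨φ, hφs, hφk⟩

/-- Differentials of elements of the prime generated locally by a family lie in the span of the family. -/
theorem tmul_D_mem_span {P : Ideal A} [P.IsPrime] {ι : Type*} [Fintype ι] (f : ι → A) (hf : ∀ i, f i ∈ P)
    (a : A) (ha : algebraMap A (Localization.AtPrime P) a ∈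
      Ideal.span (Set.range fun i => algebraMap A (Localization.AtPrime P) (f i))) :
    (1 : P.ResidueField) ⊗ₜ[A] KaehlerDifferential.D ℤ A a ∈
      Submodule.span P.ResidueField (Set.range fun i => (1 : P.ResidueField) ⊗ₜ[A] KaehlerDifferential.D ℤ A (f i)) := by
  classical
  let L := P.ResidueField
  let R := Localization.AtPrime P
  have hm : algebraMap A R a ∈ (Ideal.span (Set.range f)).map (algebraMap A R) := by
    rw [Ideal.map_span, ← Set.range_comp]
    exact ha
  rw [IsLocalization.algebraMap_mem_map_algebraMap_iff P.primeCompl R] at hm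
  obtain ⟨u, hu, hua⟩ := hm
  obtain ⟨co, hco⟩ := Ideal.mem_span_range_iff_exists_fun.mp hua
  have haP : a ∈ P := by
    have : u * a ∈ P := hco ▸ sum_mem fun i _ => P.mul_mem_left _ (hf i)
    exact (Ideal.IsPrime.mem_or_mem inferInstance this).resolve_left hu
  have hz : ∀ x ∈ P, ∀ y : Ω[A⁄ℤ], (1 : L) ⊗ₜ[A] (x • y) = 0 := fun x hx y => by
    rw [tmul_smul, ← algebraMap_smul L x, Ideal.algebraMap_residueField_eq_zero.mpr hx, zero_smul]
  have h1 : algebraMap A L u • ((1 : L) ⊗ₜ[A] KaehlerDifferential.D ℤ A a) ∈ Submodule.span L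
      (Set.range fun i => (1 : L) ⊗ₜ[A] KaehlerDifferential.D ℤ A (f i)) := by
    rw [algebraMap_smul, ← tmul_smul]
    have h2 : (1 : L) ⊗ₜ[A] KaehlerDifferential.D ℤ A (u * a) = (1 : L) ⊗ₜ[A] (u • KaehlerDifferential.D ℤ A a) := by
      rw [Derivation.leibniz, tmul_add, hz a haP, add_zero]
    rw [← h2, ← hco, map_sum, tmul_sum]
    refine sum_mem fun i _ => ?_
    rw [Derivation.leibniz, tmul_add, hz _ (hf i), add_zero, tmul_smul, ← algebraMap_smul L (co i)]
    exact Submodule.smul_mem _ _ (Submodule.subset_span ⟨i, rfl⟩)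
  exact (Submodule.smul_mem_iff _ fun h0 => hu (Ideal.algebraMap_residueField_eq_zero.mp h0)).mp h1

/-- Evaluation of a derivation at the residue field of a prime, on differentials. -/
def evd (P : Ideal A) [P.IsPrime] (D : Derivation ℤ A A) : P.ResidueField ⊗[A] Ω[A⁄ℤ] →ₗ[P.ResidueField] P.ResidueField :=
  (Algebra.linearMap A P.ResidueField ∘ₗ D.liftKaehlerDifferential).liftBaseChange P.ResidueField

theorem evd_tmul (P : Ideal A) [P.IsPrime] (D : Derivation ℤ A A) (l : P.ResidueField) (ω : Ω[A⁄ℤ]) :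
    evd P D (l ⊗ₜ[A] ω) = l * algebraMap A P.ResidueField (D.liftKaehlerDifferential ω) := by
  rw [evd, LinearMap.liftBaseChange_tmul, LinearMap.comp_apply, Algebra.linearMap_apply, smul_eq_mul]

variable {k : Type u} [Field k] [Algebra k A]

/-- A derivation kills the differentials of the field exactly when it is linear over the field. -/
theorem lift_map_eq_zero (D : Derivation ℤ A A) (hD : ∀ c : k, D (algebraMap k A c) = 0) (ω : Ω[k⁄ℤ]) :
    D.liftKaehlerDifferential (KaehlerDifferential.map ℤ ℤ k A ω) = 0 := by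
  have hω : ω ∈ Submodule.span k (Set.range (KaehlerDifferential.D ℤ k)) := by
    rw [KaehlerDifferential.span_range_derivation]; trivial
  induction hω using Submodule.span_induction with
  | mem x hx =>
    obtain ⟨c, rfl⟩ := hx
    rw [KaehlerDifferential.map_D, Derivation.liftKaehlerDifferential_comp_D, hD]
  | zero => simp
  | add x y _ _ hx hy => rw [map_add, map_add, hx, hy, add_zero]
  | smul c x _ hx => rw [map_smul, ← algebraMap_smul A c, map_smul, hx, smul_zero]

theorem evd_fam (P : Ideal A) [P.IsPrime] (D : Derivation k A A) (i : Module.Free.ChooseBasisIndex k (Ω[k⁄ℤ])) :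
    evd P (D.restrictScalars ℤ) (EGA41Adic.fam k A P.ResidueField i) = 0 := by
  rw [EGA41Adic.fam, evd_tmul, lift_map_eq_zero _ fun c => D.map_algebraMap c, map_zero, mul_zero]

variable [IsNoetherianRing A] [IsLocalRing A] [IsRegularLocalRing A]

/-- Derivations with invertible Jacobian give formal smoothness of the localised quotient. -/
theorem isAdicFormallySmooth_of_jacobian
    (hind : LinearIndependent (ResidueField A) (EGA41Adic.fam k A (ResidueField A))) (hq : q ≤ 𝔭)
    {m : ℕ} (D : Fin m → Derivation k A A) (f : Fin m → A) (hfq : ∀ i, f i ∈ q)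
    (hspan : q.map (algebraMap A (Localization.AtPrime 𝔭)) =
      Ideal.span (Set.range fun i => algebraMap A (Localization.AtPrime 𝔭) (f i)))
    (hdet : Matrix.det (Matrix.of fun i j => D i (f j)) ∉ 𝔭) :
    CAlgX.IsAdicFormallySmooth k (Bq q 𝔭) (maximalIdeal (Bq q 𝔭)) := by
  classical
  let R := Localization.AtPrime 𝔭
  let L := 𝔭.ResidueField
  haveI : IsRegularRing A := CotT.isRegularRing_of_local A
  haveI : IsRegularLocalRing R := IsRegularRing.isRegularLocalRing_localization 𝔭
  haveI : IsNoetherianRing (Bq q 𝔭) :=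
    IsLocalization.isNoetherianRing (𝔭.map (Ideal.Quotient.mk q)).primeCompl (Bq q 𝔭) inferInstance
  obtain ⟨φ, hφs, hφk⟩ := exists_phi q 𝔭 hq
  have hfP : ∀ i, f i ∈ 𝔭 := fun i => hq (hfq i)
  let v : Fin m → L ⊗[A] Ω[A⁄ℤ] := fun j => (1 : L) ⊗ₜ[A] KaehlerDifferential.D ℤ A (f j)
  have hsolve : ∀ c : Fin m → L, (∀ l, evd 𝔭 ((D l).restrictScalars ℤ) (∑ j, c j • v j) = 0) → c = 0 := by
    intro c hc
    let M : Matrix (Fin m) (Fin m) L := (algebraMap A L).mapMatrix (Matrix.of fun i j => D i (f j))
    have hM : M.det ≠ 0 := by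
      rw [← RingHom.map_det]
      exact fun h => hdet (Ideal.algebraMap_residueField_eq_zero.mp h)
    refine Matrix.eq_zero_of_mulVec_eq_zero hM (funext fun l => ?_)
    rw [Pi.zero_apply, ← hc l]
    refine Eq.trans ?_ (map_sum (evd 𝔭 ((D l).restrictScalars ℤ)) (fun j => c j • v j) Finset.univ).symm
    show ∑ j, M l j * c j = _
    refine Finset.sum_congr rfl fun j _ => ?_
    refine Eq.trans ?_ (map_smul (evd 𝔭 ((D l).restrictScalars ℤ)) (c j) (v j)).symm
    erw [evd_tmul, Derivation.liftKaehlerDifferential_comp_D]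
    rw [one_mul, smul_eq_mul, mul_comm]
    rfl
  rw [EGA41Adic.isAdicFormallySmooth_iff]
  refine ⟨?_, ?_⟩
  · have hx : ∀ i, algebraMap A R (f i) ∈ maximalIdeal R := fun i =>
      (IsLocalization.AtPrime.to_map_mem_maximal_iff R 𝔭 (f i)).mpr (hfP i)
    haveI : IsLocalRing (R ⧸ Ideal.span (Set.range fun i => algebraMap A R (f i))) :=
      S4612.isLocalRing_quot (R := R) (S := Bq q 𝔭) φ hφs (hφk.trans hspan)
    refine S4612.isRegularLocalRing_image (R := R) (S := Bq q 𝔭) φ hφs (hφk.trans hspan)
      (EGA41Nagata.isRegularLocalRing_quotient_of_indep _ hx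
        ((EGA41Quot.linearIndependent_toCotangent_iff _ hx).mpr fun a ha => ?_))
    obtain ⟨t, ht⟩ := IsLocalization.exist_integer_multiples 𝔭.primeCompl (Finset.univ : Finset (Fin m)) a
    choose a' ha' using fun i : Fin m => ht i (Finset.mem_univ i)
    let p := 𝔭
    have h2 : algebraMap A R (∑ i, a' i * f i) ∈ (p ^ 2).map (algebraMap A R) := by
      have h3 : algebraMap A R (∑ i, a' i * f i) = algebraMap A R t.1 * ∑ i, a i * algebraMap A R (f i) := by
        rw [map_sum, Finset.mul_sum]
        refine Finset.sum_congr rfl fun i _ => ?_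
        rw [map_mul, ha', Algebra.smul_def]
        exact mul_assoc _ _ _
      rw [h3, Ideal.map_pow, Localization.AtPrime.map_eq_maximalIdeal]
      exact Ideal.mul_mem_left _ _ ha
    rw [IsLocalization.algebraMap_mem_map_algebraMap_iff p.primeCompl R] at h2
    obtain ⟨u, hu, huz⟩ := h2
    have hv0 : (1 : L) ⊗ₜ[A] KaehlerDifferential.D ℤ A (u * ∑ i, a' i * f i) = 0 := by
      rw [pow_two] at huz
      refine Submodule.mul_induction_on huz (fun x hx y hy => ?_) fun x y hx hy => ?_
      · rw [Derivation.leibniz, tmul_add, tmul_smul, tmul_smul, ← algebraMap_smul L x, ← algebraMap_smul L y,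
          Ideal.algebraMap_residueField_eq_zero.mpr hx, Ideal.algebraMap_residueField_eq_zero.mpr hy,
          zero_smul, zero_smul, add_zero]
      · rw [map_add, tmul_add, hx, hy, add_zero]
    have hc : (fun i => algebraMap A L (a' i)) = 0 := hsolve _ fun l => by
      have hu0 : algebraMap A L u ≠ 0 := fun h0 => hu (Ideal.algebraMap_residueField_eq_zero.mp h0)
      have hsum0 : algebraMap A L (∑ i, a' i * f i) = 0 :=
        Ideal.algebraMap_residueField_eq_zero.mpr (sum_mem fun i _ => 𝔭.mul_mem_left _ (hfP i))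
      have hv1 : ∑ i, algebraMap A L (a' i) • v i = (1 : L) ⊗ₜ[A] KaehlerDifferential.D ℤ A (∑ i, a' i * f i) := by
        rw [map_sum, tmul_sum]
        refine Finset.sum_congr rfl fun i _ => ?_
        rw [Derivation.leibniz, tmul_add, tmul_smul, tmul_smul, ← algebraMap_smul L (f i), ← algebraMap_smul L (a' i),
          Ideal.algebraMap_residueField_eq_zero.mpr (hfP i), zero_smul, add_zero]
      rw [Derivation.leibniz, tmul_add, tmul_smul, tmul_smul, ← algebraMap_smul L (∑ i, a' i * f i), hsum0, zero_smul,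
        add_zero, ← algebraMap_smul L u, smul_eq_zero] at hv0
      rw [hv1, hv0.resolve_left hu0, map_zero]
    intro i
    have hai : algebraMap A R (a' i) ∈ maximalIdeal R :=
      (IsLocalization.AtPrime.to_map_mem_maximal_iff R p _).mpr (Ideal.algebraMap_residueField_eq_zero.mp (congrFun hc i))
    rw [ha', Algebra.smul_def] at hai
    exact (Ideal.unit_mul_mem_iff_mem _ (IsLocalization.map_units R t)).mp hai
  · obtain ⟨h, hs, hh⟩ := exists_to_residueField q 𝔭 hq
    letI : Algebra (Bq q 𝔭) L := h.toAlgebra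
    haveI : IsScalarTower A (Bq q 𝔭) L := IsScalarTower.of_algebraMap_eq fun a => (hh a).symm
    rw [indep_residue_iff (L := L) hs]
    obtain ⟨Ψ, hΨf, -, hΨk⟩ := exists_psi (k := k) q 𝔭 hq
    rw [linearIndependent_iff']
    intro s g hg
    have hmem := hΨk (∑ i ∈ s, g i • EGA41Adic.fam k A L i) (by
      rw [map_sum, ← hg]
      exact Finset.sum_congr rfl fun i _ => by rw [map_smul, hΨf])
    have hle : relSpan q 𝔭 ≤ Submodule.span L (Set.range v) := by
      rw [Submodule.span_le]
      rintro _ ⟨a, ha, rfl⟩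
      exact tmul_D_mem_span f hfP a (hspan ▸ Ideal.mem_map_of_mem _ ha)
    obtain ⟨c, hc⟩ := (Submodule.mem_span_range_iff_exists_fun L).mp (hle hmem)
    have hc0 : c = 0 := hsolve c fun l => by
      rw [hc]
      rw [map_sum]
      refine Finset.sum_eq_zero fun i _ => ?_
      erw [map_smul, evd_fam, smul_zero]
    rw [hc0] at hc
    simp only [Pi.zero_apply, zero_smul, Finset.sum_const_zero] at hc
    exact linearIndependent_iff'.mp (EGA41Adic.indep_at_prime hind 𝔭) s g hc.symm

/-- Generators with independent classes and independence of the field differentials. -/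
theorem exists_data (hq : q ≤ 𝔭) (h : CAlgX.IsAdicFormallySmooth k (Bq q 𝔭) (maximalIdeal (Bq q 𝔭)))
    [Algebra (Bq q 𝔭) 𝔭.ResidueField] (hs : Function.Surjective (algebraMap (Bq q 𝔭) 𝔭.ResidueField)) :
    IsRegularLocalRing (Bq q 𝔭) ∧ LinearIndependent 𝔭.ResidueField (EGA41Adic.fam k (Bq q 𝔭) 𝔭.ResidueField) ∧
    ∃ (m : ℕ) (f : Fin m → A) (hf : ∀ i, algebraMap A (Localization.AtPrime 𝔭) (f i) ∈ maximalIdeal (Localization.AtPrime 𝔭)),
      (∀ i, f i ∈ q) ∧
      q.map (algebraMap A (Localization.AtPrime 𝔭)) =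
        Ideal.span (Set.range fun i => algebraMap A (Localization.AtPrime 𝔭) (f i)) ∧
      LinearIndependent (ResidueField (Localization.AtPrime 𝔭))
        (fun i => (maximalIdeal (Localization.AtPrime 𝔭)).toCotangent ⟨_, hf i⟩) := by
  classical
  let R := Localization.AtPrime 𝔭
  haveI : IsRegularRing A := CotT.isRegularRing_of_local A
  haveI : IsRegularLocalRing R := IsRegularRing.isRegularLocalRing_localization 𝔭
  haveI : IsNoetherianRing (Bq q 𝔭) :=
    IsLocalization.isNoetherianRing (𝔭.map (Ideal.Quotient.mk q)).primeCompl (Bq q 𝔭) inferInstance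
  obtain ⟨hreg, hli⟩ := EGA41Adic.isAdicFormallySmooth_iff.mp h
  refine ⟨hreg, (indep_residue_iff hs).mp hli, ?_⟩
  haveI := hreg
  haveI : IsRegularRing (Bq q 𝔭) := CotT.isRegularRing_of_local _
  obtain ⟨φ, hφs, hφk⟩ := exists_phi q 𝔭 hq
  let G : Set R := algebraMap A R '' (q : Set A)
  have hG : G ⊆ maximalIdeal R := by
    rintro _ ⟨a, ha, rfl⟩
    exact (IsLocalization.AtPrime.to_map_mem_maximal_iff R 𝔭 a).mpr (hq ha)
  have hGspan : Ideal.span G = q.map (algebraMap A R) := rfl
  haveI : IsRegularRing (R ⧸ Ideal.span G) := S4612.isRegularRing_quot (R := R) (S := Bq q 𝔭) φ hφs (hφk.trans hGspan.symm)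
  obtain ⟨m, f', hf', hfG, hspan, hlin⟩ := EGA41Nagata.exists_indep_generators G hG
  choose f hfq hff using hfG
  obtain rfl : (fun i => algebraMap A R (f i)) = f' := funext hff
  exact ⟨m, f, hf', hfq, hGspan.symm.trans hspan, hlin⟩

end

end Groth.Agent.NagataJac
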