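/-
Selection of derivations and transport of the Jacobian condition.
-/
import Mathlib
import Groth.Agent.NagataJac.Bridge
import Groth.Agent.EGA41Adic.SepField

set_option autoImplicit false
set_option linter.style.haveILetI false
set_option backward.isDefEq.respectTransparency false
universe u

open IsLocalRing

namespace Groth.Agent.NagataJac

noncomputable section

/-- A family of rows with no common relation contains an invertible square matrix. -/
theorem exists_rows {L α ι : Type*} [Field L] [Fintype ι] [DecidableEq ι] (T : α → ι → L)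
    (h : ∀ v : ι → L, (∀ a, ∑ b, v b * T a b = 0) → v = 0) :
    ∃ sel : ι → α, (Matrix.of fun i j => T (sel i) j).det ≠ 0 := by
  classical
  have htop : Submodule.span L (Set.range T) = ⊤ := by
    by_contra hne
    obtain ⟨f, hf0, hf⟩ := Submodule.exists_le_ker_of_lt_top _ (lt_top_iff_ne_top.mpr hne)
    have hexp : ∀ w : ι → L, f w = ∑ b, f (Pi.single b 1) * w b := fun w => by
      conv_lhs => rw [pi_eq_sum_univ w]
      rw [map_sum]
      refine Finset.sum_congr rfl fun b _ => ?_
      rw [map_smul, smul_eq_mul, mul_comm]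
      congr 2
      funext j
      by_cases hbj : b = j
      · subst hbj; simp
      · rw [if_neg hbj, Pi.single_eq_of_ne (Ne.symm hbj)]
    have hv := h (fun b => f (Pi.single b 1)) fun a => by
      rw [← hexp]
      exact hf (Submodule.subset_span ⟨a, rfl⟩)
    refine hf0 (LinearMap.ext fun w => ?_)
    rw [hexp, LinearMap.zero_apply]
    exact Finset.sum_eq_zero fun b _ => by rw [congrFun hv b, Pi.zero_apply, zero_mul]
  obtain ⟨s, hs, hsspan, hsli⟩ := exists_linearIndependent L (Set.range T)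
  haveI : Finite s := hsli.finite
  haveI := Fintype.ofFinite s
  have hcard : Fintype.card s = Fintype.card ι := by
    rw [← finrank_span_eq_card hsli, Subtype.range_coe, hsspan, htop, finrank_top, Module.finrank_pi]
  let e : ι ≃ s := (Fintype.equivOfCardEq hcard).symm
  choose sel hsel using fun i => hs (e i).2
  refine ⟨sel, ((Matrix.isUnit_iff_isUnit_det _).mp (Matrix.linearIndependent_rows_iff_isUnit.mp ?_)).ne_zero⟩
  have h2 := hsli.comp e e.injective
  rwa [show (Matrix.of fun i j => T (sel i) j).row = (fun x : s => (x : ι → L)) ∘ e from funext fun i => hsel i]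

/-- Derivations and elements of the ideal with invertible Jacobian generating locally. -/
def HasJac (k A : Type u) [Field k] [CommRing A] [Algebra k A] (q 𝔭 : Ideal A) [𝔭.IsPrime] : Prop :=
  ∃ (m : ℕ) (D : Fin m → Derivation k A A) (f : Fin m → A), (∀ i, f i ∈ q) ∧
    q.map (algebraMap A (Localization.AtPrime 𝔭)) = Ideal.span (Set.range fun i => algebraMap A (Localization.AtPrime 𝔭) (f i)) ∧
    Matrix.det (Matrix.of fun i j => D i (f j)) ∉ 𝔭

/-- Formal smoothness of localised quotients is invariant under isomorphism. -/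
theorem fs_Bq_of_algEquiv {k A A' : Type u} [Field k] [CommRing A] [CommRing A'] [Algebra k A] [Algebra k A']
    (e : A ≃ₐ[k] A') (q 𝔭 : Ideal A) [𝔭.IsPrime] [(𝔭.map (Ideal.Quotient.mk q)).IsPrime]
    (q' 𝔭' : Ideal A') [𝔭'.IsPrime] [(𝔭'.map (Ideal.Quotient.mk q')).IsPrime]
    (hq : q' = q.map e.toAlgHom.toRingHom) (hp : 𝔭' = 𝔭.map e.toAlgHom.toRingHom)
    (h : CAlgX.IsAdicFormallySmooth k (Bq q 𝔭) (maximalIdeal (Bq q 𝔭))) :
    CAlgX.IsAdicFormallySmooth k (Bq q' 𝔭') (maximalIdeal (Bq q' 𝔭')) := by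
  let j : (A ⧸ q) ≃ₐ[k] (A' ⧸ q') := Ideal.quotientEquivAlg q q' e hq
  have hj : ∀ a, j (Ideal.Quotient.mk q a) = Ideal.Quotient.mk q' (e a) := fun a => rfl
  have hpb : (𝔭.map (Ideal.Quotient.mk q)).map j.toAlgHom.toRingHom = 𝔭'.map (Ideal.Quotient.mk q') := by
    rw [hp, Ideal.map_map, Ideal.map_map]
    congr 1
  have hS : (𝔭.map (Ideal.Quotient.mk q)).primeCompl.map j.toRingEquiv.toMonoidHom =
      (𝔭'.map (Ideal.Quotient.mk q')).primeCompl := by
    ext y
    obtain ⟨x, rfl⟩ := j.surjective y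
    have hx : (j x ∈ 𝔭'.map (Ideal.Quotient.mk q')) ↔ x ∈ 𝔭.map (Ideal.Quotient.mk q) := by
      rw [← hpb]
      exact Ideal.apply_mem_of_equiv_iff (f := j.toRingEquiv)
    show j x ∈ Submonoid.map _ _ ↔ ¬ _
    rw [SetLike.mem_coe, hx]
    exact ⟨fun ⟨z, hz, hzx⟩ => j.injective hzx ▸ hz, fun hz => ⟨x, hz, rfl⟩⟩
  let ε : Bq q 𝔭 ≃+* Bq q' 𝔭' :=
    IsLocalization.ringEquivOfRingEquiv (Bq q 𝔭) (Bq q' 𝔭') j.toRingEquiv hS
  let εa : Bq q 𝔭 ≃ₐ[k] Bq q' 𝔭' := AlgEquiv.ofRingEquiv (f := ε) fun c => by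
    rw [IsScalarTower.algebraMap_apply k (A ⧸ q) (Bq q 𝔭), IsLocalization.ringEquivOfRingEquiv_eq,
      show j.toRingEquiv (algebraMap k (A ⧸ q) c) = algebraMap k (A' ⧸ q') c from j.commutes c,
      ← IsScalarTower.algebraMap_apply]
  exact EGA41Adic.isAdicFormallySmooth_of_algEquiv εa (by
    haveI : IsLocalHom εa.toAlgHom.toRingHom := IsLocalHom.of_surjective _ εa.surjective
    exact IsLocalRing.map_maximalIdeal_of_surjective _ εa.surjective) h

/-- The Jacobian condition transports along isomorphisms. -/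
theorem hasJac_of_algEquiv {k A A' : Type u} [Field k] [CommRing A] [CommRing A'] [Algebra k A] [Algebra k A']
    (e : A ≃ₐ[k] A') (q 𝔭 : Ideal A) [𝔭.IsPrime] (q' 𝔭' : Ideal A') [𝔭'.IsPrime]
    (hq : q' = q.map e.toAlgHom.toRingHom) (hp : 𝔭' = 𝔭.map e.toAlgHom.toRingHom) (h : HasJac k A' q' 𝔭') :
    HasJac k A q 𝔭 := by
  obtain ⟨m, D, f, hfq, hspan, hdet⟩ := h
  have hpm : ∀ a, e a ∈ 𝔭' ↔ a ∈ 𝔭 := fun a => by
    rw [hp]; exact Ideal.apply_mem_of_equiv_iff (f := e.toRingEquiv)
  let D' : Fin m → Derivation k A A := fun i => Derivation.mk'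
    (e.symm.toLinearMap ∘ₗ (D i).toLinearMap ∘ₗ e.toLinearMap)
    fun a b => by simp [Derivation.leibniz]
  refine ⟨m, D', fun i => e.symm (f i), fun i => ?_, ?_, ?_⟩
  · have : e (e.symm (f i)) ∈ q.map e.toAlgHom.toRingHom := by rw [e.apply_symm_apply, ← hq]; exact hfq i
    exact (Ideal.apply_mem_of_equiv_iff (f := e.toRingEquiv)).mp this
  · have hS : 𝔭.primeCompl.map e.toRingEquiv.toMonoidHom = 𝔭'.primeCompl := by
      ext y
      obtain ⟨x, rfl⟩ := e.surjective y
      show e x ∈ Submonoid.map _ _ ↔ ¬ _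
      rw [SetLike.mem_coe, hpm x]
      exact ⟨fun ⟨z, hz, hzx⟩ => e.injective hzx ▸ hz, fun hz => ⟨x, hz, rfl⟩⟩
    let ε : Localization.AtPrime 𝔭 ≃+* Localization.AtPrime 𝔭' :=
      IsLocalization.ringEquivOfRingEquiv (Localization.AtPrime 𝔭) (Localization.AtPrime 𝔭') e.toRingEquiv hS
    have hε : ∀ a, ε (algebraMap A _ a) = algebraMap A' _ (e a) := fun a =>
      IsLocalization.ringEquivOfRingEquiv_eq hS a
    have hinj : ∀ I J : Ideal (Localization.AtPrime 𝔭), I.map ε.toRingHom = J.map ε.toRingHom → I = J := fun I J h => by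
      rw [← Ideal.comap_map_of_bijective ε.toRingHom ε.bijective (I := I), h,
        Ideal.comap_map_of_bijective ε.toRingHom ε.bijective]
    refine hinj _ _ ?_
    rw [Ideal.map_map, show ε.toRingHom.comp (algebraMap A _) = (algebraMap A' _).comp e.toAlgHom.toRingHom from
        RingHom.ext hε, ← Ideal.map_map, ← hq, hspan, Ideal.map_span, ← Set.range_comp]
    congr 1
    congr 1
    funext i
    exact ((hε _).trans (by rw [e.apply_symm_apply])).symm
  · intro hmem
    refine hdet ?_
    have h1 := (hpm _).mpr hmem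
    have h2 : e (Matrix.det (Matrix.of fun i j => D' i (e.symm (f j)))) = Matrix.det (Matrix.of fun i j => D i (f j)) := by
      rw [show e _ = e.toAlgHom.toRingHom _ from rfl, RingHom.map_det]
      congr 1
      ext i j
      simp [D']
    rwa [h2] at h1

end

end Groth.Agent.NagataJac
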