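/-
Subfields of finite codegree and derivations of finite extensions.
-/
import Mathlib
import Groth.Agent.AdmissibleSub.Basic
import Groth.Agent.S2475
import Groth.Agent.S2469
import Groth.Agent.S4525

set_option autoImplicit false
set_option linter.style.haveILetI false
universe u

open TensorProduct

namespace Groth.Agent.NagataJac

noncomputable section

attribute [local instance 2000] Ring.toIntAlgebra

variable (p : ℕ) [Fact p.Prime]

/-- Derivations over `ℤ` kill the prime field. -/
theorem D_bot {F K : Type u} [Field F] [Field K] [Algebra F K] (c : (⊥ : Subfield F)) :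
    KaehlerDifferential.D ℤ K (algebraMap F K c) = 0 := by
  let D := KaehlerDifferential.D ℤ K
  let S : Subfield F :=
    { carrier := {x | D (algebraMap F K x) = 0}
      mul_mem' := fun {a b} (ha : D (algebraMap F K a) = 0) (hb : D (algebraMap F K b) = 0) =>
        show D (algebraMap F K (a * b)) = 0 by simp [Derivation.leibniz, ha, hb]
      one_mem' := show D (algebraMap F K 1) = 0 by simp
      add_mem' := fun {a b} (ha : D (algebraMap F K a) = 0) (hb : D (algebraMap F K b) = 0) =>
        show D (algebraMap F K (a + b)) = 0 by rw [map_add, map_add, ha, hb, add_zero]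
      zero_mem' := show D (algebraMap F K 0) = 0 by simp
      neg_mem' := fun {a} (ha : D (algebraMap F K a) = 0) => show D (algebraMap F K (-a)) = 0 by
        rw [map_neg, map_neg, ha, neg_zero]
      inv_mem' := fun a (ha : D (algebraMap F K a) = 0) => by
        show D (algebraMap F K a⁻¹) = 0
        rw [map_inv₀, Derivation.leibniz_inv, ha, smul_zero] }
  exact (bot_le : (⊥ : Subfield F) ≤ S) c.2

/-- Absolute differentials are differentials over any subfield killed by derivations. -/
theorem map_injective {k₀ K : Type u} [Field k₀] [Field K] [Algebra k₀ K]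
    (h : ∀ c : k₀, KaehlerDifferential.D ℤ K (algebraMap k₀ K c) = 0) :
    Function.Injective (KaehlerDifferential.map ℤ k₀ K K) := by
  let D := KaehlerDifferential.D ℤ K
  haveI : IsScalarTower k₀ K (Ω[K⁄ℤ]) := inferInstance
  let D' : Derivation k₀ K (Ω[K⁄ℤ]) := Derivation.mk'
    { toFun := D
      map_add' := fun a b => map_add D a b
      map_smul' := fun c x => by
        rw [Algebra.smul_def, D.leibniz, h, smul_zero, add_zero, RingHom.id_apply, algebraMap_smul] }
    fun a b => D.leibniz a b
  have key : ∀ ω, D'.liftKaehlerDifferential (KaehlerDifferential.map ℤ k₀ K K ω) = ω := fun ω => by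
    have hω : ω ∈ Submodule.span K (Set.range D) := by
      rw [KaehlerDifferential.span_range_derivation]; trivial
    induction hω using Submodule.span_induction with
    | mem x hx =>
      obtain ⟨a, rfl⟩ := hx
      rw [KaehlerDifferential.map_D, Derivation.liftKaehlerDifferential_comp_D]
      rfl
    | zero => rw [map_zero, map_zero]
    | add x y _ _ hx hy => rw [map_add, map_add, hx, hy]
    | smul c x _ hx => rw [map_smul, map_smul, hx]
  exact Function.LeftInverse.injective key

/-- Naturality of the base-change map in the ring of scalars. -/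
theorem mapBaseChange_map {R S A L : Type u} [CommRing R] [CommRing S] [CommRing A] [CommRing L] [Algebra R S]
    [Algebra R A] [Algebra S A] [IsScalarTower R S A] [Algebra A L] [Algebra R L] [Algebra S L]
    [IsScalarTower R A L] [IsScalarTower S A L] [IsScalarTower R S L] (w : L ⊗[A] Ω[A⁄R]) :
    KaehlerDifferential.mapBaseChange S A L ((KaehlerDifferential.map R S A A).baseChange L w) =
      KaehlerDifferential.map R S L L (KaehlerDifferential.mapBaseChange R A L w) := by
  induction w with
  | zero => simp
  | add x y hx hy => simp only [map_add, hx, hy]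
  | tmul l v =>
    have hv : v ∈ Submodule.span A (Set.range (KaehlerDifferential.D R A)) := by
      rw [KaehlerDifferential.span_range_derivation]; trivial
    induction hv using Submodule.span_induction with
    | mem x hx =>
      obtain ⟨a, rfl⟩ := hx
      simp [KaehlerDifferential.mapBaseChange_tmul, KaehlerDifferential.map_D]
    | zero => simp
    | add x y _ _ hx hy => simp only [tmul_add, map_add, hx, hy]
    | smul c x _ hx =>
      rw [tmul_smul, ← algebraMap_smul L c (l ⊗ₜ[A] x), map_smul, map_smul, map_smul, map_smul, hx]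

/-- Naturality of the base-change map in the ring of scalars, from the integers. -/
theorem mapBaseChange_map_int {S A L : Type u} [CommRing A] [CommRing L] [CommRing S]
    [Algebra S A] [Algebra A L] [Algebra S L] [IsScalarTower S A L] (w : L ⊗[A] Ω[A⁄ℤ]) :
    KaehlerDifferential.mapBaseChange S A L ((KaehlerDifferential.map ℤ S A A).baseChange L w) =
      KaehlerDifferential.map ℤ S L L (KaehlerDifferential.mapBaseChange ℤ A L w) := by
  induction w with
  | zero => simp
  | add x y hx hy => simp only [map_add, hx, hy]
  | tmul l v =>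
    have hv : v ∈ Submodule.span A (Set.range (KaehlerDifferential.D ℤ A)) := by
      rw [KaehlerDifferential.span_range_derivation]; trivial
    induction hv using Submodule.span_induction with
    | mem x hx =>
      obtain ⟨a, rfl⟩ := hx
      simp [KaehlerDifferential.mapBaseChange_tmul, KaehlerDifferential.map_D]
    | zero => simp
    | add x y _ _ hx hy => simp only [tmul_add, map_add, hx, hy]
    | smul c x _ hx =>
      rw [tmul_smul, ← algebraMap_smul L c (l ⊗ₜ[A] x), map_smul, map_smul, map_smul, map_smul, hx]

/-- Functionals on differentials over an intermediate field, evaluated as derivations. -/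
theorem lift_compDer {k₀ L : Type u} [CommRing k₀] [Field L] [Algebra k₀ L] (φ : Ω[L⁄k₀] →ₗ[L] L) (v : Ω[L⁄ℤ]) :
    ((φ.compDer (KaehlerDifferential.D k₀ L)).restrictScalars ℤ).liftKaehlerDifferential v =
      φ (KaehlerDifferential.map ℤ k₀ L L v) := by
  have hv : v ∈ Submodule.span L (Set.range (KaehlerDifferential.D ℤ L)) := by
    rw [KaehlerDifferential.span_range_derivation]; trivial
  induction hv using Submodule.span_induction with
  | mem x hx =>
    obtain ⟨a, rfl⟩ := hx
    rw [KaehlerDifferential.map_D, Derivation.liftKaehlerDifferential_comp_D]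
    rfl
  | zero => simp
  | add x y _ _ hx hy => simp only [map_add, hx, hy]
  | smul c x _ hx => simp only [map_smul, hx]

/-- The core count: with an admissible subfield, derivations of the extension are bounded by generators of the base. -/
theorem count_core {k₀ L' L : Type u} [Field k₀] [Field L'] [Field L] [Algebra k₀ L'] [Algebra k₀ L] [Algebra L' L]
    [IsScalarTower k₀ L' L] (E : IntermediateField k₀ L') [Module.Finite L (Ω[L⁄L'])]
    (Υ : Submodule L (L ⊗[L'] Ω[L'⁄ℤ])) [Module.Finite L Υ]
    (hΥ : Module.finrank L (Ω[L⁄L']) ≤ Module.finrank L Υ)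
    (T : L ⊗[L'] Ω[L'⁄ℤ] →ₗ[L] L ⊗[L'] Ω[L'⁄E])
    (hT : ∀ w ∈ Υ, KaehlerDifferential.mapBaseChange E L' L (T w) = 0) (hTinj : ∀ w ∈ Υ, T w = 0 → w = 0)
    (n : ℕ) (g : Fin n → L')
    (hg : ∀ δ : Derivation ℤ L' L', (∀ x ∈ E, δ x = 0) → (∀ j, δ (g j) = 0) → ∀ x, δ x = 0)
    (m : ℕ) (V : Fin m → Derivation ℤ L L) (hV : ∀ j, ∀ x ∈ E, V j (algebraMap L' L x) = 0)
    (hVli : LinearIndependent L (fun j => (V j : L → L))) : m ≤ n := by
  classical
  have hspan : Submodule.span L' (Set.range fun j => KaehlerDifferential.D E L' (g j)) = ⊤ := by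
    rw [← Submodule.dualAnnihilator_eq_bot_iff, Submodule.eq_bot_iff]
    intro φ hφ
    rw [Submodule.mem_dualAnnihilator] at hφ
    have h0 := hg ((φ.compDer (KaehlerDifferential.D E L')).restrictScalars ℤ)
      (fun x hx => by
        show φ (KaehlerDifferential.D E L' x) = 0
        rw [show KaehlerDifferential.D E L' x = 0 from
          (KaehlerDifferential.D E L').map_algebraMap ⟨x, hx⟩, map_zero])
      (fun j => hφ _ (Submodule.subset_span ⟨j, rfl⟩))
    exact LinearMap.ext_on_range (KaehlerDifferential.span_range_derivation E L') fun x => h0 x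
  haveI : Module.Finite L' (Ω[L'⁄E]) := ⟨hspan ▸ Submodule.fg_span (Set.finite_range _)⟩
  have hn : Module.finrank L' (Ω[L'⁄E]) ≤ n := by
    have := finrank_range_le_card (R := L') fun j => KaehlerDifferential.D E L' (g j)
    rw [Set.finrank, hspan, finrank_top, Fintype.card_fin] at this
    exact this
  let φ := KaehlerDifferential.mapBaseChange E L' L
  let π := KaehlerDifferential.map E L' L L
  have hsurj : Function.Surjective π := KaehlerDifferential.map_surjective E L' L
  have hex : Function.Exact φ π := KaehlerDifferential.exact_mapBaseChange_map E L' L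
  haveI : Module.Finite L (Ω[L⁄E]) := Module.Finite.of_exact hex hsurj
  have hdim : Module.finrank L (Ω[L⁄E]) = Module.finrank L (LinearMap.range φ) + Module.finrank L (Ω[L⁄L']) := by
    have h := LinearMap.finrank_range_add_finrank_ker π
    rw [LinearMap.range_eq_top.mpr hsurj, finrank_top, LinearMap.exact_iff.mp hex] at h
    omega
  have hker := LinearMap.finrank_range_add_finrank_ker φ
  rw [Module.finrank_baseChange] at hker
  let T' : Υ →ₗ[L] LinearMap.ker φ := T.restrict hT
  have hT' : Function.Injective T' := (injective_iff_map_eq_zero _).mpr fun w hw =>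
    Subtype.ext (hTinj w.1 w.2 (congrArg Subtype.val hw))
  have hle := LinearMap.finrank_le_finrank_of_injective hT'
  let V' : Fin m → Derivation E L L := fun j => Derivation.mk'
    { toFun := V j
      map_add' := fun a b => map_add (V j) a b
      map_smul' := fun c x => by
        rw [Algebra.smul_def, (V j).leibniz, show V j (algebraMap E L c) = 0 from hV j c.1 c.2, smul_zero,
          add_zero, RingHom.id_apply, smul_eq_mul, Algebra.smul_def] }
    fun a b => (V j).leibniz a b
  have hli : LinearIndependent L fun j => (V' j).liftKaehlerDifferential := by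
    rw [Fintype.linearIndependent_iff] at hVli ⊢
    intro a ha j
    refine hVli a (funext fun x => ?_) j
    have := LinearMap.congr_fun ha (KaehlerDifferential.D E L x)
    simp only [LinearMap.coe_sum, Finset.sum_apply, LinearMap.smul_apply,
      Derivation.liftKaehlerDifferential_comp_D, LinearMap.zero_apply] at this
    simp only [Finset.sum_apply, Pi.smul_apply, Pi.zero_apply]
    exact this
  have hm := hli.fintype_card_le_finrank
  rw [Module.finrank_linearMap_self, Fintype.card_fin] at hm
  omega

variable {L' L : Type u} [Field L'] [Field L] [CharP L' p] [Algebra L' L] [Module.Finite L' L]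
variable {ι : Type u} [Preorder ι] [IsDirected ι (· ≤ ·)] [Nonempty ι] (S : ι → Subfield L') (hS : Antitone S)
  (hpow : ∀ i x, x ^ p ∈ S i) (hinf : ∀ x, (∀ i, x ∈ S i) → ∃ y, y ^ p = x)

omit [Module.Finite L' L] in
include hS hpow hinf in
theorem separating_family :
    ∃ E : ι → IntermediateField (⊥ : Subfield L') L', Antitone E ∧ (∀ i x, x ∈ E i ↔ x ∈ S i) ∧
      ∀ ω : Ω[L'⁄(⊥ : Subfield L')], (∀ i, KaehlerDifferential.map (⊥ : Subfield L') (E i) L' L' ω = 0) → ω = 0 := by
  have hSc : ∀ i (c : (⊥ : Subfield L')), algebraMap (⊥ : Subfield L') L' c ∈ S i := fun i c =>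
    (bot_le : (⊥ : Subfield L') ≤ S i) c.2
  let E : ι → IntermediateField (⊥ : Subfield L') L' := fun i => (S i).toIntermediateField (hSc i)
  have hE : Antitone E := fun i j hij x hx => hS hij hx
  refine ⟨E, hE, fun i x => Iff.rfl, (Groth.Agent.S2475.result p E hE).mp ?_⟩
  have hadj : ∀ i, IntermediateField.adjoin (⊥ : Subfield L') (Set.range fun y : L' => y ^ p) ≤ E i := fun i =>
    IntermediateField.adjoin_le_iff.mpr fun _ ⟨y, hy⟩ => hy ▸ hpow i y
  refine le_antisymm (fun x hx => ?_) (le_iInf fun i => le_sup_right)
  obtain ⟨y, rfl⟩ := hinf x fun i => by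
    have h1 : x ∈ E i ⊔ IntermediateField.adjoin (⊥ : Subfield L') (Set.range fun y : L' => y ^ p) :=
      (iInf_le (fun i => E i ⊔ IntermediateField.adjoin (⊥ : Subfield L') (Set.range fun y : L' => y ^ p)) i) hx
    rw [sup_eq_left.mpr (hadj i)] at h1
    exact h1
  exact IntermediateField.subset_adjoin _ _ ⟨y, rfl⟩

include hS hpow hinf in
/-- Derivations killing some subfield separate the absolute differentials of the extension. -/
theorem separating (ω : Ω[L⁄ℤ]) (hω : ∀ i, ∀ δ : Derivation ℤ L L, (∀ x ∈ S i, δ (algebraMap L' L x) = 0) →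
    δ.liftKaehlerDifferential ω = 0) : ω = 0 := by
  haveI : CharP L p := charP_of_injective_algebraMap (algebraMap L' L).injective p
  obtain ⟨E, hE, hES, hsep⟩ := separating_family p S hS hpow hinf
  obtain ⟨-, hΥ, -⟩ := Groth.Agent.S4525.result (k := (⊥ : Subfield L')) (K := L') (L := L)
  haveI := hΥ
  refine map_injective (k₀ := (⊥ : Subfield L')) (K := L) (fun c => D_bot c) ?_
  rw [map_zero]
  refine AdmissibleSub.eq_zero_of_map_eq_zero hE hsep _ fun i => ?_
  let M := (E i).map (IsScalarTower.toAlgHom (⊥ : Subfield L') L' L)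
  refine (Module.forall_dual_apply_eq_zero_iff L _).mp fun φ => ?_
  have h := hω i ((φ.compDer (KaehlerDifferential.D M L)).restrictScalars ℤ) fun x hx => by
    show φ (KaehlerDifferential.D M L _) = 0
    rw [show KaehlerDifferential.D M L (algebraMap L' L x) = 0 from
      (KaehlerDifferential.D M L).map_algebraMap ⟨_, x, (hES i x).mpr hx, rfl⟩, map_zero]
  rw [lift_compDer] at h
  refine Eq.trans (congrArg φ ?_) h
  have hv : ∀ v : Ω[L⁄ℤ], KaehlerDifferential.map (⊥ : Subfield L') M L L (KaehlerDifferential.map ℤ (⊥ : Subfield L') L L v) =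
      KaehlerDifferential.map ℤ M L L v := fun v => by
    have hv : v ∈ Submodule.span L (Set.range (KaehlerDifferential.D ℤ L)) := by
      rw [KaehlerDifferential.span_range_derivation]; trivial
    induction hv using Submodule.span_induction with
    | mem x hx =>
      obtain ⟨a, rfl⟩ := hx
      simp [KaehlerDifferential.map_D]
    | zero => simp
    | add x y _ _ hx hy => simp only [map_add, hx, hy]
    | smul c x _ hx => simp only [map_smul, hx]
  exact hv ω

include hS hpow hinf in
/-- For some subfield, independent derivations of the extension are at most as many as generators of the base. -/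
theorem exists_count :
    ∃ i, ∀ (n : ℕ) (g : Fin n → L'),
      (∀ δ : Derivation ℤ L' L', (∀ x ∈ S i, δ x = 0) → (∀ j, δ (g j) = 0) → ∀ x, δ x = 0) →
      ∀ (m : ℕ) (V : Fin m → Derivation ℤ L L), (∀ j, ∀ x ∈ S i, V j (algebraMap L' L x) = 0) →
        LinearIndependent L (fun j => (V j : L → L)) → m ≤ n := by
  haveI : CharP L p := charP_of_injective_algebraMap (algebraMap L' L).injective p
  obtain ⟨E, hE, hES, hsep⟩ := separating_family p S hS hpow hinf
  obtain ⟨-, hΥ, -⟩ := Groth.Agent.S4525.result (k := (⊥ : Subfield L')) (K := L') (L := L)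
  haveI := hΥ
  obtain ⟨i, hi⟩ := AdmissibleSub.exists_admissible (L := L) hE hsep
  refine ⟨i, fun n g hg m V hV hVli => ?_⟩
  obtain ⟨hΩ, hΥℤ, hCar⟩ := Groth.Agent.S2469.result (K := L') (L := L)
  haveI := hΩ
  haveI := hΥℤ
  let Z : L ⊗[L'] Ω[L'⁄ℤ] →ₗ[L] L ⊗[L'] Ω[L'⁄(⊥ : Subfield L')] := (KaehlerDifferential.map ℤ (⊥ : Subfield L') L' L').baseChange L
  have hZinj : Function.Injective Z := by
    show Function.Injective ((KaehlerDifferential.map ℤ (⊥ : Subfield L') L' L').lTensor L)
    exact Module.Flat.lTensor_preserves_injective_linearMap _ (map_injective (k₀ := (⊥ : Subfield L')) (K := L') (fun c => D_bot (F := L') (K := L') c))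
  have hZ : ∀ w ∈ EGA41.imperfection ℤ L' L, Z w ∈ EGA41.imperfection (⊥ : Subfield L') L' L := fun w hw => by
    show KaehlerDifferential.mapBaseChange (⊥ : Subfield L') L' L (Z w) = 0
    rw [mapBaseChange_map_int (S := (⊥ : Subfield L')) w, show KaehlerDifferential.mapBaseChange ℤ L' L w = 0 from hw, map_zero]
  refine count_core (E i) (EGA41.imperfection ℤ L' L) ?_ ((AdmissibleSub.ψ (E i)).baseChange L ∘ₗ Z)
    (fun w hw => ?_) (fun w hw h0 => ?_) n g (fun δ hδ => hg δ fun x hx => hδ x ((hES i x).mpr hx)) m V
    (fun j x hx => hV j x ((hES i x).mp hx)) hVli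
  · have htr : (Cardinal.toNat (Algebra.trdeg L' L) : ℤ) = 0 := by simp [trdeg_eq_zero (R := L') (A := L)]
    omega
  · have h1 := mapBaseChange_map (R := (⊥ : Subfield L')) (S := E i) (Z w)
    refine h1.trans ?_
    rw [show KaehlerDifferential.mapBaseChange (⊥ : Subfield L') L' L (Z w) = 0 from hZ w hw, map_zero]
  · refine hZinj ?_
    rw [map_zero]
    have h1 : Z w ∈ EGA41.imperfection (⊥ : Subfield L') L' L ⊓ LinearMap.ker ((AdmissibleSub.ψ (E i)).baseChange L) :=
      ⟨hZ w hw, h0⟩
    rwa [hi, Submodule.mem_bot] at h1

end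

end Groth.Agent.NagataJac
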