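/-
Derivations of a power series ring over a field relative to a subfield of finite codegree.
-/
import Mathlib
import Groth.Agent.EGA418Base.Perfect
import Groth.Agent.FrobCofinite.Series

set_option autoImplicit false
set_option linter.style.haveILetI false
universe u

open IsLocalRing

namespace Groth.Agent.NagataJac

noncomputable section

attribute [local instance 2000] Ring.toIntAlgebra

/-- A derivation of the coefficients acting coefficientwise. -/
def extDer {K : Type u} [CommRing K] {σ : Type} (δ : Derivation ℤ K K) :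
    Derivation ℤ (MvPowerSeries σ K) (MvPowerSeries σ K) :=
  Derivation.mk'
    (AddMonoidHom.toIntLinearMap
      { toFun := fun f n => δ (MvPowerSeries.coeff n f)
        map_zero' := by
          funext n
          show δ (MvPowerSeries.coeff n (0 : MvPowerSeries σ K)) = 0
          rw [map_zero, map_zero]
        map_add' := fun f g => by
          funext n
          show δ (MvPowerSeries.coeff n (f + g)) = _
          rw [map_add, map_add]
          rfl })
    fun f g => by
      classical
      refine MvPowerSeries.ext fun n => ?_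
      show δ (MvPowerSeries.coeff n (f * g)) = MvPowerSeries.coeff n
        (f * (show MvPowerSeries σ K from fun m => δ (MvPowerSeries.coeff m g)) +
          g * (show MvPowerSeries σ K from fun m => δ (MvPowerSeries.coeff m f)))
      rw [map_add, mul_comm g, MvPowerSeries.coeff_mul, MvPowerSeries.coeff_mul, MvPowerSeries.coeff_mul, map_sum,
        ← Finset.sum_add_distrib]
      refine Finset.sum_congr rfl fun x _ => ?_
      rw [Derivation.leibniz, smul_eq_mul, smul_eq_mul, mul_comm (MvPowerSeries.coeff x.2 g)]
      rfl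

theorem coeff_extDer {K : Type u} [CommRing K] {σ : Type} (δ : Derivation ℤ K K) (f : MvPowerSeries σ K) (n : σ →₀ ℕ) :
    MvPowerSeries.coeff n (extDer δ f) = δ (MvPowerSeries.coeff n f) := rfl

theorem extDer_C {K : Type u} [CommRing K] {σ : Type} (δ : Derivation ℤ K K) (c : K) :
    extDer δ (MvPowerSeries.C (σ := σ) c) = MvPowerSeries.C (δ c) := by
  classical
  refine MvPowerSeries.ext fun n => ?_
  rw [coeff_extDer, MvPowerSeries.coeff_C, MvPowerSeries.coeff_C]
  split_ifs with h <;> simp

theorem extDer_X {K : Type u} [CommRing K] {σ : Type} (δ : Derivation ℤ K K) (i : σ) :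
    extDer δ (MvPowerSeries.X (R := K) i) = 0 := by
  classical
  refine MvPowerSeries.ext fun n => ?_
  rw [coeff_extDer, MvPowerSeries.coeff_X]
  split_ifs with h <;> simp

/-- A finite coordinate system for the differentials of `K` over the subfield `F`. -/
theorem exists_coords {K : Type u} [Field K] (F : Subfield K) [FiniteDimensional F K] :
    ∃ (e : ℕ) (c : Fin e → K) (δ : Fin e → Derivation ℤ K K),
      (∀ i j, δ i (c j) = if i = j then 1 else 0) ∧ (∀ i, ∀ x ∈ F, δ i x = 0) ∧
      ∀ (E : Type u) [AddCommGroup E] [Module K E] (d : Derivation ℤ K E), (∀ x ∈ F, d x = 0) →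
        ∀ x, d x = ∑ j, δ j x • d (c j) := by
  classical
  let D := KaehlerDifferential.D F K
  haveI : Module.Finite K (Ω[K⁄F]) := inferInstance
  obtain ⟨b, hbsub, hbspan, hbli⟩ := exists_linearIndependent K (Set.range D)
  haveI : Finite b := hbli.finite
  let e := Nat.card b
  let eb : b ≃ Fin e := Finite.equivFin b
  choose c hc using fun i => hbsub (eb.symm i).2
  have hli : LinearIndependent K fun i => D (c i) := by
    rw [funext hc]
    exact hbli.comp eb.symm eb.symm.injective
  have hsp : ⊤ ≤ Submodule.span K (Set.range fun i => D (c i)) := by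
    rw [funext hc, show (fun i => ((eb.symm i : b) : Ω[K⁄F])) = Subtype.val ∘ eb.symm from rfl, Set.range_comp,
      eb.symm.surjective.range_eq, Set.image_univ, Subtype.range_coe, hbspan]
    exact (KaehlerDifferential.span_range_derivation F K).ge
  let B := Module.Basis.mk hli hsp
  have hB : ∀ i, B i = D (c i) := fun i => Module.Basis.mk_apply hli hsp i
  refine ⟨e, c, fun i => ((B.coord i).compDer D).restrictScalars ℤ, fun i j => ?_, fun i x hx => ?_,
    fun E _ _ d hd x => ?_⟩
  · show B.coord i (D (c j)) = _
    rw [← hB, Module.Basis.coord_apply, Module.Basis.repr_self, Finsupp.single_apply]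
    simp only [eq_comm]
  · show B.coord i (D x) = 0
    rw [show D x = 0 from D.map_algebraMap ⟨x, hx⟩, map_zero]
  · let d' : Derivation F K E := Derivation.mk'
      { toFun := d
        map_add' := fun a a' => map_add d a a'
        map_smul' := fun a y => by
          rw [Algebra.smul_def, d.leibniz, show d (algebraMap F K a) = 0 from hd _ a.2, smul_zero, add_zero,
            algebraMap_smul]
          rfl }
      fun a a' => d.leibniz a a'
    have h1 : d'.liftKaehlerDifferential (D x) = d x := Derivation.liftKaehlerDifferential_comp_D _ _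
    rw [← h1, ← B.sum_repr (D x), map_sum]
    refine Finset.sum_congr rfl fun j _ => ?_
    rw [map_smul, hB, Derivation.liftKaehlerDifferential_comp_D]
    rfl

/-- Derivations into finite modules killing the subfield are combinations of the coordinate derivations. -/
theorem derivation_eq_comb {K : Type u} [Field K] {r : ℕ} {F : Subfield K} {e : ℕ} {c : Fin e → K}
    {δ : Fin e → Derivation ℤ K K}
    (hδ : ∀ i j, δ i (c j) = if i = j then 1 else 0)
    (hgen : ∀ (E : Type u) [AddCommGroup E] [Module K E] (d : Derivation ℤ K E), (∀ x ∈ F, d x = 0) →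
        ∀ x, d x = ∑ j, δ j x • d (c j))
    {E : Type u} [AddCommGroup E] [Module (MvPowerSeries (Fin r) K) E] [Module.Finite (MvPowerSeries (Fin r) K) E]
    (d : Derivation ℤ (MvPowerSeries (Fin r) K) E) (hd : ∀ x ∈ F, d (MvPowerSeries.C x) = 0)
    (a : MvPowerSeries (Fin r) K) :
    d a = (∑ i, MvPowerSeries.pderiv K i a • d (MvPowerSeries.X i)) +
      ∑ j, extDer (δ j) a • d (MvPowerSeries.C (c j)) := by
  classical
  let A := MvPowerSeries (Fin r) K
  letI : Module K E := Module.compHom E (MvPowerSeries.C (σ := Fin r) (R := K))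
  have hCsmul : ∀ (x : K) (v : E), x • v = (MvPowerSeries.C x : A) • v := fun _ _ => rfl
  let D₁ : Derivation ℤ A E := ∑ i : Fin r,
    ((LinearMap.toSpanSingleton A E (d (MvPowerSeries.X i))).compDer ((MvPowerSeries.pderiv K i).restrictScalars ℤ))
  let D₂ : Derivation ℤ A E := ∑ j : Fin e,
    ((LinearMap.toSpanSingleton A E (d (MvPowerSeries.C (c j)))).compDer (extDer (δ j)))
  have hsum : ∀ {n : ℕ} (f : Fin n → Derivation ℤ A E) (x : A), (∑ i, f i) x = ∑ i, f i x := fun f x => by
    have := map_sum (Derivation.coeFnAddMonoidHom (R := ℤ) (A := A) (M := E)) f Finset.univ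
    exact (congrFun this x).trans (Finset.sum_apply x _ _)
  have h1 : ∀ x, D₁ x = ∑ i, MvPowerSeries.pderiv K i x • d (MvPowerSeries.X i) := fun x => by
    rw [hsum]; rfl
  have h2 : ∀ x, D₂ x = ∑ j, extDer (δ j) x • d (MvPowerSeries.C (c j)) := fun x => by
    rw [hsum]; rfl
  rw [← h1, ← h2]
  let D' := d - (D₁ + D₂)
  suffices h : D' a = 0 by
    rw [← sub_eq_zero]
    exact h
  let dK : Derivation ℤ K E := Derivation.mk'
    (d.toLinearMap.comp (MvPowerSeries.C (σ := Fin r) (R := K)).toAddMonoidHom.toIntLinearMap) fun x y => by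
      show d (MvPowerSeries.C (x * y)) = x • d (MvPowerSeries.C y) + y • d (MvPowerSeries.C x)
      rw [map_mul, Derivation.leibniz, hCsmul, hCsmul]
  have hC : ∀ x : K, D' (algebraMap K A x) = 0 := fun x => by
    show d (MvPowerSeries.C x) - (D₁ (MvPowerSeries.C x) + D₂ (MvPowerSeries.C x)) = 0
    rw [h1, h2, Finset.sum_eq_zero (fun i _ => by rw [show MvPowerSeries.C x = algebraMap K A x from rfl,
      Derivation.map_algebraMap, zero_smul]), zero_add, sub_eq_zero]
    refine (hgen E dK hd x).trans (Finset.sum_congr rfl fun j _ => ?_)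
    rw [hCsmul, extDer_C]
    rfl
  have hX : ∀ i, D' (MvPowerSeries.X i) = 0 := fun l => by
    show d (MvPowerSeries.X l) - (D₁ (MvPowerSeries.X l) + D₂ (MvPowerSeries.X l)) = 0
    rw [h1, h2, Finset.sum_eq_zero (s := (Finset.univ : Finset (Fin e))) (fun j _ => by rw [extDer_X, zero_smul]),
      add_zero, Finset.sum_eq_single l (fun i _ hi => by rw [MvPowerSeries.pderiv_X, Pi.single_eq_of_ne' hi, zero_smul])
      (fun h => absurd (Finset.mem_univ l) h), MvPowerSeries.pderiv_X, Pi.single_eq_same, one_smul, sub_self]
  haveI : IsAdicComplete (maximalIdeal A) A := ArtObs.isAdicComplete_ps K r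
  have h := EGA418Base.derivation_powerSeries_mem (maximalIdeal A) (AlgHom.id K A) (fun i => by
    rw [← ArtPow.span_X_eq_maximalIdeal]; exact Ideal.subset_span (Set.mem_range_self i)) D' hC a
  have h0 : (Set.range fun i => D' (AlgHom.id K A (MvPowerSeries.X i))) ⊆ {0} := by
    rintro _ ⟨i, rfl⟩; exact hX i
  have h3 := Submodule.span_mono h0 h
  rwa [Submodule.span_zero_singleton, Submodule.mem_bot] at h3

/-- A derivation into a finite module killing the subfield kills series in `p`-th powers over it. -/
theorem derivation_A_eq_zero (p : ℕ) [Fact p.Prime] {K : Type u} [Field K] [CharP K p] {s : ℕ} (F : Subfield K)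
    {X E : Type u} [CommRing X] [IsNoetherianRing X] [AddCommGroup E] [Module X E] [Module.Finite X E]
    (J : Ideal X) [IsAdicComplete J X] (ι : MvPowerSeries (Fin s) K →+* X) (hι : ∀ i, ι (MvPowerSeries.X i) ∈ J)
    (hE : ∀ v : E, p • v = 0) (D : Derivation ℤ X E) (hD : ∀ x ∈ F, D (ι (MvPowerSeries.C x)) = 0)
    {f : MvPowerSeries (Fin s) K} (hf : f ∈ FrobCofinite.A p F) : D (ι f) = 0 := by
  classical
  obtain ⟨g, rfl⟩ := hf
  let hom : MvPowerSeries (Fin s) F →+* X := ι.comp ((MvPowerSeries.map F.subtype).comp
    (MvPowerSeries.expand (σ := Fin s) (R := F) p (Fact.out : p.Prime).ne_zero).toRingHom)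
  letI : Algebra F X := (hom.comp MvPowerSeries.C).toAlgebra
  let w : MvPowerSeries (Fin s) F →ₐ[F] X := { hom with commutes' := fun _ => rfl }
  have hwX : ∀ i, w (MvPowerSeries.X i) = ι (MvPowerSeries.X i) ^ p := fun i => by
    show ι ((MvPowerSeries.map F.subtype) (MvPowerSeries.expand p (Fact.out : p.Prime).ne_zero (MvPowerSeries.X i))) = _
    rw [MvPowerSeries.expand_X, map_pow, MvPowerSeries.map_X, map_pow]
  have hC : ∀ x : F, D (algebraMap F X x) = 0 := fun x => by
    show D (ι ((MvPowerSeries.map F.subtype) (MvPowerSeries.expand p (Fact.out : p.Prime).ne_zero (MvPowerSeries.C x)))) = 0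
    rw [MvPowerSeries.expand_C, MvPowerSeries.map_C]
    exact hD _ x.2
  have h := EGA418Base.derivation_powerSeries_mem J w (fun i => by
    rw [hwX]; exact Ideal.pow_mem_of_mem _ (hι i) _ (Fact.out : p.Prime).pos) D hC g
  have h0 : (Set.range fun i => D (w (MvPowerSeries.X i))) ⊆ {0} := by
    rintro _ ⟨i, rfl⟩
    show D _ = 0
    rw [hwX, Derivation.leibniz_pow]
    exact hE _
  have h3 := Submodule.span_mono h0 h
  rwa [Submodule.span_zero_singleton, Submodule.mem_bot] at h3

/-- Derivations of `L` killing the series in `p`-th powers over `F` of a finite power series subring. -/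
theorem derivation_bounded (p : ℕ) [Fact p.Prime] {K : Type u} [Field K] [CharP K p] {s : ℕ} (F : Subfield K)
    [FiniteDimensional F K] {C : Type u} [CommRing C] (ι : MvPowerSeries (Fin s) K →+* C) (hι : ι.Finite)
    {L : Type u} [AddCommGroup L] [Module C L] (D : Derivation ℤ C L)
    (hD : ∀ f ∈ FrobCofinite.A p F, D (ι f) = 0) :
    ∃ N : Submodule C L, N.FG ∧ ∀ x, D x ∈ N := by
  classical
  let Q := MvPowerSeries (Fin s) K
  let S := FrobCofinite.A (r := s) p F
  letI : Algebra Q C := ι.toAlgebra
  haveI : Module.Finite Q C := hι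
  letI : Algebra S C := (ι.comp S.subtype).toAlgebra
  haveI : IsScalarTower S Q C := IsScalarTower.of_algebraMap_eq' rfl
  haveI : Module.Finite S Q := (FrobCofinite.free_finite p F).2
  haveI : Module.Finite S C := Module.Finite.trans Q C
  obtain ⟨G, hG⟩ := Module.Finite.fg_top (R := S) (M := C)
  refine ⟨Submodule.span C ((D : C → L) '' (G : Set C)), Submodule.fg_span (G.finite_toSet.image _), fun x => ?_⟩
  have hx : x ∈ Submodule.span S (G : Set C) := hG ▸ Submodule.mem_top
  induction hx using Submodule.span_induction with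
  | mem y hy => exact Submodule.subset_span ⟨y, hy, rfl⟩
  | zero => rw [map_zero]; exact zero_mem _
  | add y z _ _ hy hz => rw [map_add]; exact add_mem hy hz
  | smul a y _ hy =>
    rw [Algebra.smul_def, D.leibniz, show D (algebraMap S C a) = 0 from hD _ a.2, smul_zero, add_zero]
    exact Submodule.smul_mem _ _ hy

end

end Groth.Agent.NagataJac
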