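/-
Derivations of a power series ring separate differentials at every prime.
-/
import Mathlib
import Groth.Agent.NagataJac.Deriv
import Groth.Agent.NagataJac.Count
import Groth.Agent.EGA418Dim.Noether
import Groth.Agent.EGA418Dim.CharZeroFibre
import Groth.Agent.EGA41FS.LiftUnique
import Groth.Agent.FrobCofinite.Field
import Groth.Agent.RegTrans.Basic

set_option autoImplicit false
set_option linter.style.haveILetI false
set_option backward.isDefEq.respectTransparency false
universe u

open IsLocalRing TensorProduct

namespace Groth.Agent.NagataJac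

noncomputable section

attribute [local instance 2000] Ring.toIntAlgebra

/-- Absolute derivations killing a prime extend to its residue field. -/
theorem exists_residue_der {X : Type u} [CommRing X] (M : Ideal X) [M.IsPrime] {E : Type u} [AddCommGroup E]
    [Module M.ResidueField E] [Module X E] [IsScalarTower X M.ResidueField E] (d : Derivation ℤ X E)
    (hd : ∀ a ∈ M, d a = 0) :
    ∃ δ : Derivation ℤ M.ResidueField E, ∀ a, δ (algebraMap X M.ResidueField a) = d a := by
  haveI hT : ∀ i : Algebra ℤ M.ResidueField, @IsScalarTower ℤ M.ResidueField E i.toSMul _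
      (AddCommGroup.toIntModule E).toDistribMulAction.toDistribSMul.toSMul := fun i => by
    letI := i
    exact IsScalarTower.of_algebraMap_smul fun m v => by rw [eq_intCast]; exact Int.cast_smul_eq_zsmul _ m v
  have h := @EGA418Dim.exists_residue_derivation ℤ X _ _ _ M _ E _ _ _ _ _ _
    (hT (@ResidueField.algebra (Localization.AtPrime M) _ _ ℤ _ OreLocalization.instAlgebra)) d hd
  rw [Subsingleton.elim (@ResidueField.algebra (Localization.AtPrime M) _ _ ℤ _ OreLocalization.instAlgebra)
    (Ring.toIntAlgebra M.ResidueField)] at h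
  exact h

/-- Restriction of a derivation along an algebra map. -/
def pull (C : Type u) [CommRing C] {L : Type u} [CommRing L] [Algebra C L] (δ : Derivation ℤ L L) : Derivation ℤ C L :=
  Derivation.mk' (AddMonoidHom.toIntLinearMap (AddMonoidHom.mk' (fun y => δ (algebraMap C L y))
    (fun a b => by rw [map_add, map_add])))
    fun a b => by
      show δ (algebraMap C L (a * b)) = a • δ (algebraMap C L b) + b • δ (algebraMap C L a)
      rw [map_mul, Derivation.leibniz, smul_eq_mul, smul_eq_mul, Algebra.smul_def, Algebra.smul_def]

theorem pull_apply (C : Type u) [CommRing C] {L : Type u} [CommRing L] [Algebra C L] (δ : Derivation ℤ L L) (y : C) :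
    pull C δ y = δ (algebraMap C L y) := rfl

/-- Corestriction of a derivation to a submodule. -/
def corestrict {C : Type u} [CommRing C] {M : Type u} [AddCommGroup M] [Module C M] (d : Derivation ℤ C M)
    (N : Submodule C M) (h : ∀ a, d a ∈ N) : Derivation ℤ C N :=
  Derivation.mk' (R := ℤ) (A := C) (M := N) (AddMonoidHom.toIntLinearMap (AddMonoidHom.mk' (fun a => (⟨d a, h a⟩ : N))
    (fun a b => Subtype.ext (map_add d a b)))) fun a b => Subtype.ext (d.leibniz a b)

theorem corestrict_val {C : Type u} [CommRing C] {M : Type u} [AddCommGroup M] [Module C M] (d : Derivation ℤ C M)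
    (N : Submodule C M) (h : ∀ a, d a ∈ N) (a : C) : (corestrict d N h a).1 = d a := rfl

/-- Evaluation of a derivation at a prime. -/
def ev {A : Type u} [CommRing A] (P : Ideal A) [P.IsPrime] (D : Derivation ℤ A A) :
    P.ResidueField ⊗[A] Ω[A⁄ℤ] →ₗ[P.ResidueField] P.ResidueField :=
  (Algebra.linearMap A P.ResidueField ∘ₗ D.liftKaehlerDifferential).liftBaseChange P.ResidueField

theorem ev_tmul_D {A : Type u} [CommRing A] (P : Ideal A) [P.IsPrime] (D : Derivation ℤ A A) (l : P.ResidueField) (a : A) :
    ev P D (l ⊗ₜ[A] KaehlerDifferential.D ℤ A a) = l * algebraMap A P.ResidueField (D a) := by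
  rw [ev, LinearMap.liftBaseChange_tmul, LinearMap.comp_apply, Derivation.liftKaehlerDifferential_comp_D,
    Algebra.linearMap_apply, smul_eq_mul]

/-- Differentials whose image at the residue field vanishes come from the prime. -/
theorem mem_span_of_mapBaseChange_eq_zero {A : Type u} [CommRing A] (P : Ideal A) [P.IsPrime]
    (ω : P.ResidueField ⊗[A] Ω[A⁄ℤ]) (hω : KaehlerDifferential.mapBaseChange ℤ A P.ResidueField ω = 0) :
    ω ∈ Submodule.span P.ResidueField
      ((fun x : A => (1 : P.ResidueField) ⊗ₜ[A] KaehlerDifferential.D ℤ A x) '' (P : Set A)) := by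
  let L := P.ResidueField
  let W := Submodule.span L ((fun x : A => (1 : L) ⊗ₜ[A] KaehlerDifferential.D ℤ A x) '' (P : Set A))
  let V := (L ⊗[A] Ω[A⁄ℤ]) ⧸ W
  let d0 : Derivation ℤ A V :=
    (W.mkQ.restrictScalars A ∘ₗ TensorProduct.mk A L (Ω[A⁄ℤ]) 1).compDer (KaehlerDifferential.D ℤ A)
  obtain ⟨δ, hδ⟩ := exists_residue_der P d0 fun a ha =>
    (Submodule.Quotient.mk_eq_zero W).2 (Submodule.subset_span ⟨a, ha, rfl⟩)
  have h : ∀ w, δ.liftKaehlerDifferential (KaehlerDifferential.mapBaseChange ℤ A L w) = W.mkQ w := fun w => by
    induction w with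
    | zero => rw [map_zero, map_zero, map_zero]
    | add x y hx hy => rw [map_add, map_add, map_add, hx, hy]
    | tmul l v =>
      have hv : v ∈ Submodule.span A (Set.range (KaehlerDifferential.D ℤ A)) := by
        rw [KaehlerDifferential.span_range_derivation]; trivial
      induction hv using Submodule.span_induction with
      | mem x hx =>
        obtain ⟨a, rfl⟩ := hx
        rw [KaehlerDifferential.mapBaseChange_tmul, KaehlerDifferential.map_D, map_smul,
          Derivation.liftKaehlerDifferential_comp_D, hδ,
          show l ⊗ₜ[A] KaehlerDifferential.D ℤ A a = l • ((1 : L) ⊗ₜ[A] KaehlerDifferential.D ℤ A a) by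
            rw [TensorProduct.smul_tmul', smul_eq_mul, mul_one], map_smul]
        rfl
      | zero => simp
      | add x y _ _ hx hy => simp only [tmul_add, map_add, hx, hy]
      | smul c x _ hx =>
        rw [tmul_smul, ← algebraMap_smul L c (l ⊗ₜ[A] x), map_smul, map_smul, map_smul, hx]
  refine (Submodule.Quotient.mk_eq_zero W).1 ?_
  rw [← Submodule.mkQ_apply, ← h, hω, map_zero]

variable {K : Type u} [Field K] {r : ℕ}

/-- The facts at a prime: parameters with independent gradients, and separation modulo them. -/
theorem core (p : ℕ) [Fact p.Prime] [CharP K p] (P : Ideal (MvPowerSeries (Fin r) K)) [P.IsPrime] :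
    (∃ (c : ℕ) (h : Fin c → MvPowerSeries (Fin r) K), (∀ i, h i ∈ P) ∧
      Ideal.span (Set.range fun i => algebraMap _ (Localization.AtPrime P) (h i)) =
        maximalIdeal (Localization.AtPrime P) ∧
      ∀ l : Fin c → P.ResidueField, (∀ D : Derivation ℤ (MvPowerSeries (Fin r) K) (MvPowerSeries (Fin r) K),
        ∑ i, l i * algebraMap _ P.ResidueField (D (h i)) = 0) → l = 0) ∧
    ∀ ω : P.ResidueField ⊗[MvPowerSeries (Fin r) K] Ω[MvPowerSeries (Fin r) K⁄ℤ],
      (∀ D, ev P D ω = 0) → KaehlerDifferential.mapBaseChange ℤ _ P.ResidueField ω = 0 := by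
  classical
  let A := MvPowerSeries (Fin r) K
  let L := P.ResidueField
  let C := A ⧸ P
  haveI : IsAdicComplete (maximalIdeal A) A := ArtObs.isAdicComplete_ps K r
  haveI : Nontrivial C := Ideal.Quotient.nontrivial_iff.mpr (Ideal.IsPrime.ne_top inferInstance)
  haveI : IsLocalRing C := IsLocalRing.of_surjective' (Ideal.Quotient.mk P) Ideal.Quotient.mk_surjective
  haveI : IsAdicComplete (maximalIdeal C) C := EGA41FS.isAdicComplete_quotient P
  haveI : Module.Finite K (ResidueField C) := by
    refine Module.Finite.of_surjective (Algebra.linearMap K (ResidueField C)) fun x => ?_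
    obtain ⟨y, rfl⟩ := residue_surjective x
    obtain ⟨a, rfl⟩ := Ideal.Quotient.mk_surjective y
    refine ⟨MvPowerSeries.constantCoeff a, ?_⟩
    have hm : Ideal.Quotient.mk P (a - MvPowerSeries.C (MvPowerSeries.constantCoeff a)) ∈ maximalIdeal C := by
      haveI : IsLocalHom (Ideal.Quotient.mk P) := IsLocalHom.of_surjective _ Ideal.Quotient.mk_surjective
      refine (mem_maximalIdeal _).mpr (map_mem_nonunits_iff (Ideal.Quotient.mk P) _ |>.mpr ?_)
      rw [mem_nonunits_iff, MvPowerSeries.isUnit_iff_constantCoeff]
      simp
    rw [← sub_eq_zero]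
    have h0 := (residue_eq_zero_iff _).mpr hm
    rw [map_sub, map_sub, sub_eq_zero] at h0
    rw [h0, Algebra.linearMap_apply, IsScalarTower.algebraMap_apply K C (ResidueField C), sub_eq_zero]
    rfl
  obtain ⟨s, w, hwinj, hwloc, hwfin, hdimC⟩ := EGA418Dim.exists_noether (k := K) (A := C)
  let Q := MvPowerSeries (Fin s) K
  haveI : IsDomain Q := NoZeroDivisors.to_isDomain _
  let L' := FractionRing Q
  let φ : Q →+* L := (algebraMap C L).comp w.toRingHom
  have hφ : Function.Injective φ := (IsFractionRing.injective C L).comp hwinj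
  letI : Algebra L' L := (IsFractionRing.lift (K := L') hφ).toAlgebra
  have hL'L : ∀ f : Q, algebraMap L' L (algebraMap Q L' f) = algebraMap C L (w f) := fun f =>
    IsFractionRing.lift_algebraMap hφ f
  haveI : CharP L' p := charP_of_injective_ringHom
    (f := (algebraMap Q L').comp (MvPowerSeries.C (σ := Fin s) (R := K)))
    ((IsFractionRing.injective Q L').comp MvPowerSeries.C_injective) p
  haveI : CharP L p := charP_of_injective_algebraMap (algebraMap L' L).injective p
  haveI : Module.Finite L' L := by
    letI : Algebra Q C := w.toRingHom.toAlgebra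
    have hfinQC : Module.Finite Q C := hwfin
    haveI := hfinQC
    obtain ⟨G, hG⟩ := hfinQC.fg_top
    have hint : ∀ x ∈ (algebraMap C L '' (G : Set C)), IsIntegral L' x := by
      rintro _ ⟨g, -, rfl⟩
      obtain ⟨f, hf, hf0⟩ := Algebra.IsIntegral.isIntegral (R := Q) g
      refine ⟨f.map (algebraMap Q L'), hf.map _, ?_⟩
      rw [Polynomial.eval₂_map, show (algebraMap L' L).comp (algebraMap Q L') = (algebraMap C L).comp (algebraMap Q C)
        from RingHom.ext hL'L, ← Polynomial.hom_eval₂, hf0, map_zero]
    haveI : Finite (algebraMap C L '' (G : Set C)) := (G.finite_toSet.image _).to_subtype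
    let E := IntermediateField.adjoin L' (algebraMap C L '' (G : Set C))
    haveI : FiniteDimensional L' E := IntermediateField.finiteDimensional_adjoin hint
    have hC : ∀ x : C, algebraMap C L x ∈ E := fun x => by
      have hx : x ∈ Submodule.span Q (G : Set C) := hG ▸ Submodule.mem_top
      induction hx using Submodule.span_induction with
      | mem y hy => exact IntermediateField.subset_adjoin _ _ ⟨y, hy, rfl⟩
      | zero => rw [map_zero]; exact zero_mem _
      | add y z _ _ hy hz => rw [map_add]; exact add_mem hy hz
      | smul a y _ hy =>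
        rw [Algebra.smul_def, map_mul, show algebraMap C L (algebraMap Q C a) = algebraMap L' L (algebraMap Q L' a) from
          (hL'L a).symm]
        exact mul_mem (E.algebraMap_mem _) hy
    have htop : E = ⊤ := eq_top_iff.mpr fun x _ => by
      obtain ⟨a, b, -, rfl⟩ := IsFractionRing.div_surjective C x
      exact div_mem (hC a) (hC b)
    exact Module.Finite.equiv ((IntermediateField.equivOfEq htop).trans IntermediateField.topEquiv).toLinearEquiv
  -- the family of subfields
  obtain ⟨F, hFanti, hFpow, hFfin, hFinf⟩ := FrobCofinite.exists_relFamily p K (FrobCofinite.P p K) subset_rfl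
  have hFinf' : ∀ x, (∀ i, x ∈ F i) → ∃ y, y ^ p = x := fun x hx =>
    (Subfield.closure_le (t := (frobenius K p).fieldRange)).mpr (fun y hy => hy) (hFinf x hx)
  let S : Finset K → Subfield L' := fun i => Subfield.closure (algebraMap Q L' '' (FrobCofinite.A (r := s) p (F i)))
  have hSanti : Antitone S := fun i j hij =>
    Subfield.closure_mono (Set.image_mono (FrobCofinite.A_mono p (hFanti hij)))
  have hSeq := FrobCofinite.iInf_closure_eq p F (r := s) (fun i x => hFpow i ⟨x, rfl⟩) hFinf'
  have hSpow : ∀ i x, x ^ p ∈ S i := fun i x => by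
    have h : x ^ p ∈ ⨅ i, (S i : Set L') := by
      rw [show (⨅ i, (S i : Set L')) = _ from hSeq]
      exact ⟨x, rfl⟩
    exact Set.mem_iInter.mp h i
  have hSinf : ∀ x, (∀ i, x ∈ S i) → ∃ y, y ^ p = x := fun x hx => by
    have h : x ∈ ⨅ i, (S i : Set L') := Set.mem_iInter.mpr hx
    rw [show (⨅ i, (S i : Set L')) = _ from hSeq] at h
    exact h
  haveI : IsScalarTower ℤ C L := ⟨fun n c x => by rw [Algebra.smul_def c x, Algebra.smul_def (n • c) x, map_zsmul, smul_mul_assoc]⟩
  haveI : IsScalarTower ℤ Q L' := ⟨fun n c x => by rw [Algebra.smul_def c x, Algebra.smul_def (n • c) x, map_zsmul, smul_mul_assoc]⟩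
  have hAC : ∀ a : A, algebraMap C L (Ideal.Quotient.mk P a) = algebraMap A L a := fun a =>
    (IsScalarTower.algebraMap_apply A C L a).symm
  have hwC : ∀ x : K, w (MvPowerSeries.C x) = Ideal.Quotient.mk P (MvPowerSeries.C x) := fun x => w.commutes x
  refine ⟨?_, fun ω hω => separating p S hSanti hSpow hSinf _ fun i δ hδ => ?_⟩
  swap
  · -- every derivation killing a subfield is a combination of evaluations
    haveI := hFfin i
    obtain ⟨e, cc, dd, hdd, -, hgen⟩ := exists_coords (F i)
    have hδC : ∀ f ∈ FrobCofinite.A (r := s) p (F i), δ (algebraMap C L (w f)) = 0 := fun f hf => by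
      rw [← hL'L]; exact hδ _ (Subfield.subset_closure ⟨f, hf, rfl⟩)
    obtain ⟨N, hN, hNmem⟩ := derivation_bounded p (F i) w.toRingHom hwfin (pull C δ) hδC
    let N' : Submodule A L := N.restrictScalars A
    haveI : Module.Finite C N := Module.Finite.iff_fg.mpr hN
    haveI : Module.Finite A N := Module.Finite.trans C N
    haveI : Module.Finite A N' := ‹Module.Finite A N›
    let d : Derivation ℤ A L := pull A δ
    have hd : ∀ a, d a ∈ N' := fun a => by
      show δ (algebraMap A L a) ∈ N
      rw [← hAC]
      exact hNmem (Ideal.Quotient.mk P a)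
    let dN : Derivation ℤ A N' := Derivation.mk'
      (AddMonoidHom.toIntLinearMap (AddMonoidHom.mk' (fun a => (⟨d a, hd a⟩ : N'))
        (fun a b => Subtype.ext (map_add d a b))))
      fun a b => Subtype.ext (d.leibniz a b)
    have hcomb := derivation_eq_comb hdd hgen dN fun x hx => Subtype.ext (by
      show δ (algebraMap A L (MvPowerSeries.C x)) = 0
      rw [← hAC, ← hwC]
      refine hδC _ ((FrobCofinite.mem_A_iff p (F i) _).mpr fun n => ?_)
      rw [MvPowerSeries.coeff_C]
      split_ifs with hn
      · subst hn
        exact ⟨hx, fun ⟨l, hl⟩ => absurd (dvd_zero p) (by simpa using hl)⟩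
      · exact ⟨zero_mem _, fun _ => rfl⟩)
    have hval : ∀ a, δ (algebraMap A L a) =
        (∑ l, algebraMap A L (MvPowerSeries.pderiv K l a) * d (MvPowerSeries.X l)) +
          ∑ j, algebraMap A L (extDer (dd j) a) * d (MvPowerSeries.C (cc j)) := fun a => by
      have h := congrArg Subtype.val (hcomb a)
      simp only [Submodule.coe_add, Submodule.coe_sum, Submodule.coe_smul_of_tower] at h
      refine h.trans ?_
      simp only [Algebra.smul_def]
      rfl
    let Φ : L ⊗[A] Ω[A⁄ℤ] → L := fun v =>
      (∑ l, d (MvPowerSeries.X l) * ev P ((MvPowerSeries.pderiv K l).restrictScalars ℤ) v) +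
        ∑ j, d (MvPowerSeries.C (cc j)) * ev P (extDer (dd j)) v
    have hΦ : ∀ v, δ.liftKaehlerDifferential (KaehlerDifferential.mapBaseChange ℤ A L v) = Φ v := fun v => by
      induction v with
      | zero => simp [Φ]
      | add x y hx hy =>
        simp only [map_add, hx, hy, Φ, mul_add, Finset.sum_add_distrib]
        exact add_add_add_comm _ _ _ _
      | tmul l v =>
        have hv : v ∈ Submodule.span A (Set.range (KaehlerDifferential.D ℤ A)) := by
          rw [KaehlerDifferential.span_range_derivation]; trivial
        induction hv using Submodule.span_induction with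
        | mem x hx =>
          obtain ⟨a, rfl⟩ := hx
          rw [KaehlerDifferential.mapBaseChange_tmul, KaehlerDifferential.map_D, map_smul,
            Derivation.liftKaehlerDifferential_comp_D, hval]
          simp only [Φ, smul_eq_mul, mul_add]
          congr 1
          · refine (Finset.mul_sum _ _ _).trans (Finset.sum_congr rfl fun t _ => ?_)
            erw [ev_tmul_D]
            show l * (algebraMap A L (MvPowerSeries.pderiv K t a) * d (MvPowerSeries.X t)) =
                d (MvPowerSeries.X t) * (l * algebraMap A L (MvPowerSeries.pderiv K t a))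
            ring
          · refine (Finset.mul_sum _ _ _).trans (Finset.sum_congr rfl fun t _ => ?_)
            erw [ev_tmul_D]
            ring
        | zero => simp [Φ]
        | add x y _ _ hx hy =>
          simp only [tmul_add, map_add, hx, hy, Φ, mul_add, Finset.sum_add_distrib]
          exact add_add_add_comm _ _ _ _
        | smul c x _ hx =>
          rw [tmul_smul, ← algebraMap_smul L c (l ⊗ₜ[A] x), map_smul, map_smul, hx]
          simp only [Φ, map_smul, smul_eq_mul, mul_add]
          congr 1 <;> exact (Finset.mul_sum _ _ _).trans (Finset.sum_congr rfl fun t _ => mul_left_comm _ _ _)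
    rw [hΦ]
    simp [Φ, hω]
  · -- the count
    obtain ⟨i, hi⟩ := exists_count (L := L) p S hSanti hSpow hSinf
    haveI := hFfin i
    obtain ⟨e, cc, dd, hdd, hddF, hgen⟩ := exists_coords (F i)
    let R := Localization.AtPrime P
    haveI : IsRegularRing A := RegTrans.isRegularRing_mvPowerSeries K r
    haveI : IsRegularLocalRing R := IsRegularRing.isRegularLocalRing_localization P
    obtain ⟨g, hgcard, hgspan⟩ := Submodule.FG.exists_span_finset_card_eq_spanFinrank
      (maximalIdeal R).fg_of_isNoetherianRing
    let c := g.card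
    let gf : Fin c → R := fun t => (g.equivFin.symm t).1
    choose hh hu using fun t => IsLocalization.surj P.primeCompl (gf t)
    let h : Fin c → A := fun t => (hh t).1
    have hunit : ∀ t, IsUnit (algebraMap A R (hh t).2) := fun t => IsLocalization.map_units R _
    have hspan : Ideal.span (Set.range fun t => algebraMap A R (h t)) = maximalIdeal R := by
      refine le_antisymm (Ideal.span_le.mpr ?_) ?_
      · rintro _ ⟨t, rfl⟩
        show algebraMap A R (hh t).1 ∈ maximalIdeal R
        rw [← hu]
        exact Ideal.mul_mem_right _ _ (hgspan ▸ Submodule.subset_span (g.equivFin.symm t).2)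
      · rw [← hgspan]
        refine Submodule.span_le.mpr fun x hx => ?_
        obtain ⟨t, rfl⟩ : ∃ t, gf t = x := ⟨g.equivFin ⟨x, hx⟩, by simp [gf]⟩
        refine (Ideal.mul_unit_mem_iff_mem _ (hunit t)).mp ?_
        rw [hu]
        exact Ideal.subset_span ⟨t, rfl⟩
    have hP : ∀ t, h t ∈ P := fun t => (IsLocalization.AtPrime.to_map_mem_maximal_iff R P _).mp
      (hspan ▸ Ideal.subset_span ⟨t, rfl⟩)
    refine ⟨c, h, hP, hspan, fun l hl => ?_⟩
    -- coordinates of the derivations into `L`
    let J := Fin r ⊕ Fin e
    let Dv : J → Derivation ℤ A A := Sum.elim (fun t => (MvPowerSeries.pderiv K t).restrictScalars ℤ) fun j => extDer (dd j)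
    let pt : J → A := Sum.elim (fun t => MvPowerSeries.X t) fun j => MvPowerSeries.C (cc j)
    have hdual : ∀ x y : J, algebraMap A L (Dv x (pt y)) = if x = y then 1 else 0 := by
      rintro (x | x) (y | y) <;> simp only [Dv, pt, Sum.elim_inl, Sum.elim_inr]
      · show algebraMap A L (MvPowerSeries.pderiv K x (MvPowerSeries.X y : MvPowerSeries (Fin r) K)) = _
        rw [MvPowerSeries.pderiv_X]
        by_cases hxy : x = y
        · subst hxy; simp
        · rw [if_neg fun h => hxy (Sum.inl.inj h)]; simp [hxy, Ne.symm hxy]
      · show algebraMap A L (MvPowerSeries.pderiv K x (algebraMap K (MvPowerSeries (Fin r) K) (cc y))) = _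
        rw [Derivation.map_algebraMap]
        simp
      · rw [extDer_X]; simp
      · rw [extDer_C, hdd]
        by_cases hxy : x = y
        · subst hxy; simp
        · rw [if_neg fun h => hxy (Sum.inr.inj h)]; simp [hxy]
    let G : (J → L) →ₗ[L] (Fin c → L) := Matrix.mulVecLin (Matrix.of fun t x => algebraMap A L (Dv x (h t)))
    let kerG := LinearMap.ker G
    let b := Module.finBasis L kerG
    let da : Fin (Module.finrank L kerG) → Derivation ℤ A L := fun t =>
      ∑ x, (b t).1 x • (Algebra.linearMap A L).compDer (Dv x)
    have hda : ∀ t a, da t a = ∑ x, (b t).1 x * algebraMap A L (Dv x a) := fun t a => by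
      have := map_sum (Derivation.coeFnAddMonoidHom (R := ℤ) (A := A) (M := L))
        (fun x => (b t).1 x • (Algebra.linearMap A L).compDer (Dv x)) Finset.univ
      exact (congrFun this a).trans ((Finset.sum_apply a _ _).trans rfl)
    have hdaP : ∀ t, ∀ a ∈ P, da t a = 0 := by
      intro t a ha
      have hh0 : ∀ q, da t (h q) = 0 := fun q => by
        have := congrFun (LinearMap.mem_ker.mp (b t).2) q
        rw [Matrix.mulVecLin_apply] at this
        rw [hda]
        refine Eq.trans (Finset.sum_congr rfl fun x _ => mul_comm _ _) this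
      have hmem : algebraMap A R a ∈ (Ideal.span (Set.range h)).map (algebraMap A R) := by
        rw [Ideal.map_span, ← Set.range_comp]
        show _ ∈ Ideal.span (Set.range fun t => algebraMap A R (h t))
        rw [hspan]
        exact (IsLocalization.AtPrime.to_map_mem_maximal_iff R P a).mpr ha
      rw [IsLocalization.algebraMap_mem_map_algebraMap_iff P.primeCompl R] at hmem
      obtain ⟨u, hu', hua⟩ := hmem
      obtain ⟨co, hco⟩ := Ideal.mem_span_range_iff_exists_fun.mp hua
      have h1 : da t (u * a) = 0 := by
        rw [← hco, map_sum]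
        refine Finset.sum_eq_zero fun q _ => ?_
        rw [Derivation.leibniz, hh0, smul_zero, zero_add, Algebra.smul_def,
          Ideal.algebraMap_residueField_eq_zero.mpr (hP q), zero_mul]
      rw [Derivation.leibniz, Algebra.smul_def, Algebra.smul_def, Ideal.algebraMap_residueField_eq_zero.mpr ha,
        zero_mul, add_zero] at h1
      exact (mul_eq_zero.mp h1).resolve_left fun h0 => hu' (Ideal.algebraMap_residueField_eq_zero.mp h0)
    choose V hVda using fun t => exists_residue_der P (da t) (hdaP t)
    have hbound : Module.finrank L kerG ≤ s + e := by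
      refine hi (s + e) (Fin.append (fun t => algebraMap Q L' (MvPowerSeries.X t))
        fun j => algebraMap Q L' (MvPowerSeries.C (cc j))) (fun δ' hδ' hg' x => ?_) _ V (fun t x hx => ?_) ?_
      · -- derivations of the base are determined by the coordinates
        have hQ : ∀ f ∈ FrobCofinite.A (r := s) p (F i), δ' (algebraMap Q L' f) = 0 := fun f hf =>
          hδ' _ (Subfield.subset_closure ⟨f, hf, rfl⟩)
        obtain ⟨N, hN, hNmem⟩ := derivation_bounded p (F i) (RingHom.id Q) (RingHom.Finite.id Q) (pull Q δ') hQ
        haveI : Module.Finite Q N := Module.Finite.iff_fg.mpr hN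
        let dN : Derivation ℤ Q N := Derivation.mk'
          (AddMonoidHom.toIntLinearMap (AddMonoidHom.mk' (fun a => (⟨(pull Q δ') a, hNmem a⟩ : N))
            (fun a b => Subtype.ext (map_add (pull Q δ') a b))))
          fun a b => Subtype.ext ((pull Q δ').leibniz a b)
        have hz := derivation_eq_comb hdd hgen dN fun y hy => Subtype.ext (hQ _ ((FrobCofinite.mem_A_iff p (F i) _).mpr
          fun n => by
            show MvPowerSeries.coeff n (MvPowerSeries.C y) ∈ F i ∧
              ((∃ l, ¬p ∣ n l) → MvPowerSeries.coeff n (MvPowerSeries.C y) = 0)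
            rw [MvPowerSeries.coeff_C]
            split_ifs with hn
            · subst hn
              exact ⟨hy, fun ⟨l, hl⟩ => absurd (dvd_zero p) (by simpa using hl)⟩
            · exact ⟨zero_mem _, fun _ => rfl⟩))
        have hzero : ∀ f, δ' (algebraMap Q L' f) = 0 := fun f => by
          have h2 := hz f
          rw [Finset.sum_eq_zero fun t _ => ?_, Finset.sum_eq_zero fun j _ => ?_, add_zero] at h2
          · exact congrArg Subtype.val h2
          · rw [show dN (MvPowerSeries.C (cc j)) = 0 from Subtype.ext (show δ' (algebraMap Q L' (MvPowerSeries.C (cc j))) = 0 by simpa using hg' (Fin.natAdd s j)), smul_zero]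
          · rw [show dN (MvPowerSeries.X t) = 0 from Subtype.ext (show δ' (algebraMap Q L' (MvPowerSeries.X t)) = 0 by simpa using hg' (Fin.castAdd e t)), smul_zero]
        obtain ⟨f₁, f₂, -, rfl⟩ := IsFractionRing.div_surjective Q x
        rw [Derivation.leibniz_div, hzero, hzero]
        simp
      · -- they kill the subfield
        haveI : Module.Finite C ↥(Submodule.span C (Set.range (b t).1)) :=
          Module.Finite.iff_fg.mpr (Submodule.fg_span (Set.finite_range _))
        let N := Submodule.span C (Set.range (b t).1)
        have hmem : ∀ y : C, V t (algebraMap C L y) ∈ N := fun y => by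
          obtain ⟨a, rfl⟩ := Ideal.Quotient.mk_surjective y
          rw [hAC, hVda, hda]
          refine sum_mem fun x _ => ?_
          rw [mul_comm, ← hAC, ← Algebra.smul_def]
          exact N.smul_mem _ (Submodule.subset_span ⟨x, rfl⟩)
        let dC : Derivation ℤ C N := corestrict (pull C (V t)) N hmem
        have hkill : ∀ f ∈ FrobCofinite.A (r := s) p (F i), V t (algebraMap L' L (algebraMap Q L' f)) = 0 := by
          intro f hf
          rw [hL'L]
          refine congrArg Subtype.val (derivation_A_eq_zero (X := C) (E := ↥N) p (F i) (maximalIdeal C) w.toRingHom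
            (fun j => ?_) (fun v => Subtype.ext ?_) dC (fun y hy => Subtype.ext ?_) hf)
          · haveI := hwloc
            refine map_nonunit w.toRingHom _ ?_
            rw [← ArtPow.span_X_eq_maximalIdeal]
            exact Ideal.subset_span (Set.mem_range_self j)
          · rw [Submodule.coe_smul_of_tower, nsmul_eq_mul, CharP.cast_eq_zero, zero_mul]
            rfl
          · show V t (algebraMap C L (w (MvPowerSeries.C y))) = 0
            rw [hwC, hAC, hVda, hda]
            refine Finset.sum_eq_zero fun z _ => ?_
            cases z with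
            | inl z =>
              show _ * algebraMap A L (MvPowerSeries.pderiv K z (MvPowerSeries.C y)) = 0
              rw [show MvPowerSeries.C y = algebraMap K A y from rfl, Derivation.map_algebraMap, map_zero, mul_zero]
            | inr z =>
              show _ * algebraMap A L (extDer (dd z) (MvPowerSeries.C y)) = 0
              rw [extDer_C, hddF z y hy, map_zero, map_zero, mul_zero]
        let Z : Subfield L' :=
          { carrier := {y | V t (algebraMap L' L y) = 0}
            mul_mem' := fun {a b} (ha : V t (algebraMap L' L a) = 0) (hb : V t (algebraMap L' L b) = 0) =>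
              show V t (algebraMap L' L (a * b)) = 0 by simp [Derivation.leibniz, ha, hb]
            one_mem' := show V t (algebraMap L' L 1) = 0 by simp
            add_mem' := fun {a b} (ha : V t (algebraMap L' L a) = 0) (hb : V t (algebraMap L' L b) = 0) =>
              show V t (algebraMap L' L (a + b)) = 0 by rw [map_add, map_add, ha, hb, add_zero]
            zero_mem' := show V t (algebraMap L' L 0) = 0 by simp
            neg_mem' := fun {a} (ha : V t (algebraMap L' L a) = 0) => show V t (algebraMap L' L (-a)) = 0 by
              rw [map_neg, map_neg, ha, neg_zero]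
            inv_mem' := fun a (ha : V t (algebraMap L' L a) = 0) => by
              show V t (algebraMap L' L a⁻¹) = 0
              rw [map_inv₀, Derivation.leibniz_inv, ha, smul_zero] }
        exact (Subfield.closure_le (t := Z)).mpr (by rintro _ ⟨f, hf, rfl⟩; exact hkill f hf) hx
      · -- independence
        rw [Fintype.linearIndependent_iff]
        intro a ha
        have h1 : ∑ t, a t • b t = 0 := Subtype.ext (funext fun y => by
          have := congrFun ha (algebraMap A L (pt y))
          simp only [Finset.sum_apply, Pi.smul_apply, Pi.zero_apply, smul_eq_mul] at this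
          rw [Finset.sum_congr rfl fun x _ => congrArg (a x * ·) (show V x (algebraMap A L (pt y)) = (b x).1 y by
            rw [hVda, hda, Finset.sum_eq_single y (fun z _ hz => by rw [hdual, if_neg hz, mul_zero])
              (fun hy => absurd (Finset.mem_univ y) hy), hdual, if_pos rfl, mul_one])] at this
          simpa using this)
        exact Fintype.linearIndependent_iff.mp b.linearIndependent a h1
    -- the dimension of the localisation
    have hcs : c + s ≤ r := by
      have h1 := EGA418Base.dim_localization_add_dim_quotient_le P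
      rw [EGA41SymGr.Model.ringKrullDim_eq (n := r) K, hdimC] at h1
      have h2 : ((maximalIdeal R).spanFinrank : WithBot ℕ∞) = ringKrullDim R :=
        IsRegularLocalRing.spanFinrank_maximalIdeal
      rw [← hgcard] at h2
      change ringKrullDim R + (s : WithBot ℕ∞) ≤ r at h1
      rw [← h2] at h1
      exact_mod_cast h1
    have hsurj : LinearMap.range G = ⊤ := by
      refine Submodule.eq_top_of_finrank_eq (le_antisymm (Submodule.finrank_le _) ?_)
      have h1 := LinearMap.finrank_range_add_finrank_ker G
      rw [Module.finrank_pi, Fintype.card_sum, Fintype.card_fin, Fintype.card_fin] at h1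
      rw [Module.finrank_pi, Fintype.card_fin]
      have hb' : Module.finrank L (LinearMap.ker G) ≤ s + e := hbound
      omega
    funext t
    obtain ⟨a, ha⟩ : Pi.single t (1 : L) ∈ LinearMap.range G := hsurj ▸ Submodule.mem_top
    have h1 : ∑ q, l q * G a q = 0 := by
      simp only [G, Matrix.mulVecLin_apply, Matrix.mulVec, dotProduct, Matrix.of_apply, Finset.mul_sum]
      rw [Finset.sum_comm]
      refine Finset.sum_eq_zero fun x _ => ?_
      rw [Finset.sum_congr rfl (fun q _ => (mul_assoc (l q) _ (a x)).symm), ← Finset.sum_mul, hl (Dv x), zero_mul]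
    rw [ha, Finset.sum_eq_single t (fun q _ hq => by rw [Pi.single_eq_of_ne hq, mul_zero])
      (fun h => absurd (Finset.mem_univ t) h), Pi.single_eq_same, mul_one] at h1
    exact h1

variable (p : ℕ) [Fact p.Prime] [CharP K p] (P : Ideal (MvPowerSeries (Fin r) K)) [P.IsPrime]

include p in
/-- Derivations of the power series ring separate differentials at a prime. -/
theorem separate (ω : P.ResidueField ⊗[MvPowerSeries (Fin r) K] Ω[MvPowerSeries (Fin r) K⁄ℤ])
    (hω : ∀ D, ev P D ω = 0) : ω = 0 := by
  classical
  let A := MvPowerSeries (Fin r) K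
  let L := P.ResidueField
  obtain ⟨⟨c, h, hP, hspan, hli⟩, himg⟩ := core p P
  let v : Fin c → L ⊗[A] Ω[A⁄ℤ] := fun i => (1 : L) ⊗ₜ[A] KaehlerDifferential.D ℤ A (h i)
  have hmem := mem_span_of_mapBaseChange_eq_zero P ω (himg ω hω)
  have hle : Submodule.span L ((fun x : A => (1 : L) ⊗ₜ[A] KaehlerDifferential.D ℤ A x) '' (P : Set A)) ≤
      Submodule.span L (Set.range v) := by
    rw [Submodule.span_le]
    rintro _ ⟨a, ha, rfl⟩
    let R := Localization.AtPrime P
    have hm : algebraMap A R a ∈ (Ideal.span (Set.range h)).map (algebraMap A R) := by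
      rw [Ideal.map_span, ← Set.range_comp]
      show _ ∈ Ideal.span (Set.range fun t => algebraMap A R (h t))
      rw [hspan]
      exact (IsLocalization.AtPrime.to_map_mem_maximal_iff R P a).mpr ha
    rw [IsLocalization.algebraMap_mem_map_algebraMap_iff P.primeCompl R] at hm
    obtain ⟨u, hu, hua⟩ := hm
    obtain ⟨co, hco⟩ := Ideal.mem_span_range_iff_exists_fun.mp hua
    have hz : ∀ x ∈ P, ∀ y : Ω[A⁄ℤ], (1 : L) ⊗ₜ[A] (x • y) = 0 := fun x hx y => by
      rw [tmul_smul, ← algebraMap_smul L x, Ideal.algebraMap_residueField_eq_zero.mpr hx, zero_smul]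
    have h1 : algebraMap A L u • ((1 : L) ⊗ₜ[A] KaehlerDifferential.D ℤ A a) ∈ Submodule.span L (Set.range v) := by
      rw [algebraMap_smul, ← tmul_smul]
      have h2 : (1 : L) ⊗ₜ[A] KaehlerDifferential.D ℤ A (u * a) = (1 : L) ⊗ₜ[A] (u • KaehlerDifferential.D ℤ A a) := by
        rw [Derivation.leibniz, tmul_add, hz a ha, add_zero]
      rw [← h2, ← hco, map_sum, tmul_sum]
      refine sum_mem fun i _ => ?_
      rw [Derivation.leibniz, tmul_add, hz _ (hP i), add_zero, tmul_smul, ← algebraMap_smul L (co i)]
      exact Submodule.smul_mem _ _ (Submodule.subset_span ⟨i, rfl⟩)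
    exact (Submodule.smul_mem_iff _ fun h0 => hu (Ideal.algebraMap_residueField_eq_zero.mp h0)).mp h1
  obtain ⟨l, rfl⟩ := (Submodule.mem_span_range_iff_exists_fun L).mp (hle hmem)
  rw [hli l fun D => ?_]
  · simp
  · refine Eq.trans ?_ (hω D)
    rw [map_sum]
    refine Finset.sum_congr rfl fun i _ => ?_
    rw [map_smul, ev_tmul_D, one_mul, smul_eq_mul]

include p in
/-- Elements independent modulo the square of the prime have independent differentials. -/
theorem grad_indep {m : ℕ} (f : Fin m → MvPowerSeries (Fin r) K)
    (hf : ∀ j, algebraMap _ (Localization.AtPrime P) (f j) ∈ maximalIdeal (Localization.AtPrime P))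
    (hli : LinearIndependent (ResidueField (Localization.AtPrime P))
      (fun j => (maximalIdeal (Localization.AtPrime P)).toCotangent ⟨_, hf j⟩))
    (v : Fin m → P.ResidueField) (hv : ∀ D : Derivation ℤ (MvPowerSeries (Fin r) K) (MvPowerSeries (Fin r) K),
      ∑ j, v j * algebraMap _ P.ResidueField (D (f j)) = 0) : v = 0 := by
  classical
  let A := MvPowerSeries (Fin r) K
  let L := P.ResidueField
  let R := Localization.AtPrime P
  obtain ⟨⟨c, h, hP, hspan, hlh⟩, -⟩ := core p P
  have hfP : ∀ j, f j ∈ P := fun j => (IsLocalization.AtPrime.to_map_mem_maximal_iff R P _).mp (hf j)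
  have hh : ∀ i, algebraMap A R (h i) ∈ maximalIdeal R := fun i => hspan ▸ Ideal.subset_span ⟨i, rfl⟩
  have hex : ∀ j, ∃ u, u ∉ P ∧ ∃ co : Fin c → A, ∑ i, co i * h i = u * f j := fun j => by
    have hm : algebraMap A R (f j) ∈ (Ideal.span (Set.range h)).map (algebraMap A R) := by
      rw [Ideal.map_span, ← Set.range_comp]
      show _ ∈ Ideal.span (Set.range fun t => algebraMap A R (h t))
      rw [hspan]
      exact hf j
    rw [IsLocalization.algebraMap_mem_map_algebraMap_iff P.primeCompl R] at hm
    obtain ⟨u, hu, hua⟩ := hm
    exact ⟨u, hu, Ideal.mem_span_range_iff_exists_fun.mp hua⟩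
  choose u hu co hco using hex
  let q := algebraMap A L
  have hqu : ∀ j, q (u j) ≠ 0 := fun j h0 => hu j (Ideal.algebraMap_residueField_eq_zero.mp h0)
  let v' : Fin m → L := fun j => v j / q (u j)
  have hD : ∀ (D : Derivation ℤ A A) (j : Fin m), q (u j) * q (D (f j)) = ∑ i, q (co j i) * q (D (h i)) := fun D j => by
    have h1 := congrArg q (congrArg D (hco j))
    rw [map_sum, map_sum, Derivation.leibniz, smul_eq_mul, smul_eq_mul, map_add, map_mul, map_mul,
      show q (f j) = 0 from Ideal.algebraMap_residueField_eq_zero.mpr (hfP j), zero_mul, add_zero] at h1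
    rw [← h1]
    refine Finset.sum_congr rfl fun i _ => ?_
    rw [Derivation.leibniz, smul_eq_mul, smul_eq_mul, map_add, map_mul, map_mul,
      show q (h i) = 0 from Ideal.algebraMap_residueField_eq_zero.mpr (hP i), zero_mul, add_zero]
  have hzero : (fun i => ∑ j, v' j * q (co j i)) = 0 := hlh _ fun D => by
    rw [← hv D]
    simp only [Finset.sum_mul]
    rw [Finset.sum_comm]
    refine Finset.sum_congr rfl fun j _ => ?_
    rw [Finset.sum_congr rfl (fun i _ => mul_assoc (v' j) _ _), ← Finset.mul_sum, ← hD D j, ← mul_assoc,
      div_mul_cancel₀ _ (hqu j)]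
  have hres : ∀ (a : A), q a = residue R (algebraMap A R a) := fun a => IsScalarTower.algebraMap_apply A R L a
  have hcot : ∀ j, q (u j) • (maximalIdeal R).toCotangent ⟨_, hf j⟩ =
      ∑ i, q (co j i) • (maximalIdeal R).toCotangent ⟨_, hh i⟩ := fun j => by
    have h1 : algebraMap A R (u j) • (⟨_, hf j⟩ : maximalIdeal R) = ∑ i, algebraMap A R (co j i) • ⟨_, hh i⟩ :=
      Subtype.ext (by
        simp only [Submodule.coe_smul, Submodule.coe_sum, smul_eq_mul, ← map_mul, ← map_sum, hco]
        exact (map_mul _ _ _).symm)
    have h2 := congrArg (maximalIdeal R).toCotangent h1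
    simp only [map_sum, map_smul] at h2
    simp only [hres]
    exact h2
  have h0 : ∑ j, (v' j * q (u j)) • (maximalIdeal R).toCotangent ⟨_, hf j⟩ = 0 := by
    rw [Finset.sum_congr rfl fun j _ => (mul_smul (v' j) (q (u j)) _).trans (congrArg (v' j • ·) (hcot j))]
    simp only [Finset.smul_sum, smul_smul]
    rw [Finset.sum_comm]
    refine Finset.sum_eq_zero fun i _ => ?_
    rw [← Finset.sum_smul, congrFun hzero i]
    exact zero_smul _ _
  funext j
  have := Fintype.linearIndependent_iff.mp hli _ h0 j
  exact (div_mul_cancel₀ (v j) (hqu j)).symm.trans this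

end

end Groth.Agent.NagataJac
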