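/-
Derivations over the ground field with invertible Jacobian, in positive characteristic.
-/
import Mathlib
import Groth.Agent.NagataJac.Separate
import Groth.Agent.NagataJac.Generic
import Groth.Agent.NagataJac.Rows

set_option autoImplicit false
set_option linter.style.haveILetI false
set_option backward.isDefEq.respectTransparency false
universe u

open IsLocalRing TensorProduct

namespace Groth.Agent.NagataJac

noncomputable section

attribute [local instance 2000] Ring.toIntAlgebra

/-- The differentials of a field finite over its p-th powers are finite. -/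
theorem finite_kaehler (p : ℕ) {k : Type u} [Field k] [ExpChar k p] [CharP k p]
    (hk : Module.Finite (frobenius k p).fieldRange k) : Module.Finite k (Ω[k⁄ℤ]) := by
  classical
  obtain ⟨s, hs⟩ := hk.fg_top
  refine ⟨⟨s.image (KaehlerDifferential.D ℤ k), eq_top_iff.mpr ?_⟩⟩
  rw [← KaehlerDifferential.span_range_derivation ℤ k, Submodule.span_le]
  rintro _ ⟨x, rfl⟩
  have hx : x ∈ Submodule.span (frobenius k p).fieldRange (s : Set k) := hs ▸ Submodule.mem_top
  induction hx using Submodule.span_induction with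
  | mem y hy => exact Submodule.subset_span (Finset.mem_coe.mpr (Finset.mem_image_of_mem _ hy))
  | zero => simp
  | add y z _ _ hy hz => rw [map_add]; exact add_mem hy hz
  | smul a y _ hy =>
    obtain ⟨b, hb⟩ := a.2
    rw [Subfield.smul_def, smul_eq_mul, Derivation.leibniz, ← hb, frobenius_def, Derivation.leibniz_pow,
      ← Nat.cast_smul_eq_nsmul k p, CharP.cast_eq_zero, zero_smul, smul_zero, add_zero]
    exact Submodule.smul_mem _ _ hy

/-- Rearrangement of a triple sum. -/
theorem sum_identity {L ι κ : Type*} [CommRing L] [Fintype ι] [Fintype κ] (v : κ → L) (E : ι → κ → L) (lb : ι → L)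
    (Nm : ι → ι → L) : ∑ j, v j * ∑ i, (∑ b, lb b * Nm b i) * E i j = ∑ b, (∑ i, Nm b i * ∑ j, v j * E i j) * lb b := by
  simp only [Finset.mul_sum, Finset.sum_mul]
  rw [Finset.sum_comm]
  refine Eq.trans (Finset.sum_congr rfl fun a _ => Finset.sum_comm) ?_
  rw [Finset.sum_comm]
  refine Finset.sum_congr rfl fun b _ => Finset.sum_congr rfl fun a _ => Finset.sum_congr rfl fun j _ => ?_
  ring

variable {k K : Type u} [Field k] [Field K] {r : ℕ} [Algebra k (MvPowerSeries (Fin r) K)]

/-- Jacobian derivations from formal smoothness. -/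
theorem hasJac_charP (p : ℕ) [Fact p.Prime] [CharP K p] [Module.Finite k (Ω[k⁄ℤ])]
    (hind : LinearIndependent (ResidueField (MvPowerSeries (Fin r) K))
      (EGA41Adic.fam k (MvPowerSeries (Fin r) K) (ResidueField (MvPowerSeries (Fin r) K))))
    (q 𝔭 : Ideal (MvPowerSeries (Fin r) K)) [𝔭.IsPrime] [(𝔭.map (Ideal.Quotient.mk q)).IsPrime] (hq : q ≤ 𝔭)
    (h : CAlgX.IsAdicFormallySmooth k (Bq q 𝔭) (maximalIdeal (Bq q 𝔭))) : HasJac k (MvPowerSeries (Fin r) K) q 𝔭 := by
  classical
  let A := MvPowerSeries (Fin r) K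
  let L := 𝔭.ResidueField
  haveI : IsRegularRing A := RegTrans.isRegularRing_mvPowerSeries K r
  haveI : IsRegularLocalRing A := ArtObs.isRegularLocalRing_ps K r
  let ι := Module.Free.ChooseBasisIndex k (Ω[k⁄ℤ])
  let B := Module.Free.chooseBasis k (Ω[k⁄ℤ])
  haveI : Finite ι := Module.Finite.finite_basis B
  haveI := Fintype.ofFinite ι
  -- corrections at the closed point
  let M0 := maximalIdeal A
  let q0 := algebraMap A M0.ResidueField
  have h0 := EGA41Adic.indep_at_prime hind M0
  let lam : Derivation ℤ A A → ι → A := fun D b => D.liftKaehlerDifferential (KaehlerDifferential.map ℤ ℤ k A (B b))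
  have hlam : ∀ (P : Ideal A) [P.IsPrime] (D : Derivation ℤ A A) (b : ι),
      ev P D (EGA41Adic.fam k A P.ResidueField b) = algebraMap A P.ResidueField (lam D b) := fun P _ D b => by
    show evd P D _ = _
    rw [EGA41Adic.fam, evd_tmul, one_mul]
  obtain ⟨D', hD'⟩ := exists_rows (fun (D : Derivation ℤ A A) (b : ι) => q0 (lam D b)) fun v hv => by
    have hω : ∑ b, v b • EGA41Adic.fam k A M0.ResidueField b = 0 := separate p M0 _ fun D => by
      rw [map_sum, ← hv D]
      refine Finset.sum_congr rfl fun b _ => ?_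
      rw [map_smul, hlam, smul_eq_mul]
    exact funext (Fintype.linearIndependent_iff.mp h0 v hω)
  let M : Matrix ι ι A := Matrix.of fun a b => lam (D' a) b
  have hM : IsUnit M.det := by
    refine not_not.mp fun hu => hD' ?_
    show (q0.mapMatrix M).det = 0
    rw [← RingHom.map_det]
    exact Ideal.algebraMap_residueField_eq_zero.mpr ((mem_maximalIdeal _).mpr hu)
  let N : Matrix ι ι A := M⁻¹
  have hNM : N * M = 1 := Matrix.nonsing_inv_mul M hM
  -- the corrected derivations
  let c : Derivation ℤ A A → ι → A := fun D a => ∑ b, lam D b * N b a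
  let l : Derivation ℤ A A → (Ω[A⁄ℤ] →ₗ[A] A) := fun D =>
    D.liftKaehlerDifferential - ∑ a, c D a • (D' a).liftKaehlerDifferential
  have hl : ∀ D ω, l D ω = D.liftKaehlerDifferential ω - ∑ a, c D a * (D' a).liftKaehlerDifferential ω := fun D ω => by
    simp [l, LinearMap.sum_apply]
  have hlB : ∀ D b, l D (KaehlerDifferential.map ℤ ℤ k A (B b)) = 0 := fun D b => by
    rw [hl, sub_eq_zero]
    show lam D b = Matrix.vecMul (Matrix.vecMul (lam D) N) M b
    rw [Matrix.vecMul_vecMul, hNM, Matrix.vecMul_one]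
  have hlk : ∀ D (x : k), l D (KaehlerDifferential.D ℤ A (algebraMap k A x)) = 0 := fun D x => by
    rw [← KaehlerDifferential.map_D ℤ ℤ k A x, ← B.sum_repr (KaehlerDifferential.D ℤ k x), map_sum, map_sum]
    refine Finset.sum_eq_zero fun b _ => ?_
    rw [map_smul, ← algebraMap_smul A (B.repr (KaehlerDifferential.D ℤ k x) b), map_smul, hlB, smul_zero]
  let Dk : Derivation ℤ A A → Derivation k A A := fun D => Derivation.mk'
    { toFun := fun a => l D (KaehlerDifferential.D ℤ A a)
      map_add' := fun a b => by rw [map_add, map_add]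
      map_smul' := fun x a => by
        rw [Algebra.smul_def, Derivation.leibniz, map_add, map_smul, map_smul, hlk, smul_zero, add_zero,
          RingHom.id_apply, algebraMap_smul] }
    fun a b => by
      show l D (KaehlerDifferential.D ℤ A (a * b)) = _
      rw [Derivation.leibniz, map_add, map_smul, map_smul]
      rfl
  have hDk : ∀ D a, Dk D a = D a - ∑ i, c D i * D' i a := fun D a => by
    show l D (KaehlerDifferential.D ℤ A a) = _
    simp only [hl, Derivation.liftKaehlerDifferential_comp_D]
  -- the data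
  obtain ⟨h1, hs, hh⟩ := exists_to_residueField q 𝔭 hq
  letI : Algebra (Bq q 𝔭) L := h1.toAlgebra
  haveI : IsScalarTower A (Bq q 𝔭) L := IsScalarTower.of_algebraMap_eq fun a => (hh a).symm
  obtain ⟨-, hindB, m, f, hf, hfq, hspan, hlin⟩ := exists_data (k := k) q 𝔭 hq h hs
  obtain ⟨Ψ, hΨf, hΨq, -⟩ := exists_psi (k := k) q 𝔭 hq
  let qL := algebraMap A L
  obtain ⟨sel, hsel⟩ := exists_rows (fun (D : Derivation ℤ A A) (j : Fin m) => qL (Dk D (f j))) fun v hv => by
    let y : ι → L := fun b => ∑ a, qL (N b a) * ∑ j, v j * qL (D' a (f j))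
    let ω : L ⊗[A] Ω[A⁄ℤ] := ∑ j, v j • ((1 : L) ⊗ₜ[A] KaehlerDifferential.D ℤ A (f j))
    have hevω : ∀ D, ev 𝔭 D ω = ∑ j, v j * qL (D (f j)) := fun D => by
      rw [map_sum]
      refine Finset.sum_congr rfl fun j _ => ?_
      rw [map_smul, ev_tmul_D, one_mul, smul_eq_mul]
    have hsep : ω - ∑ b, y b • EGA41Adic.fam k A L b = 0 := separate p 𝔭 _ fun D => by
      rw [map_sub, hevω, map_sum, sub_eq_zero]
      have h2 : ∑ j, v j * qL (D (f j)) = ∑ j, v j * qL (∑ i, c D i * D' i (f j)) := by
        rw [← sub_eq_zero, ← Finset.sum_sub_distrib, ← hv D]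
        refine Finset.sum_congr rfl fun j _ => ?_
        rw [← mul_sub, ← map_sub, hDk]
      rw [h2]
      refine Eq.trans ?_ (Finset.sum_congr rfl fun b _ => (by rw [map_smul, hlam, smul_eq_mul] :
        ev 𝔭 D (y b • EGA41Adic.fam k A L b) = y b * qL (lam D b))).symm
      refine Eq.trans (Finset.sum_congr rfl fun j _ => congrArg (v j * ·) ?_)
        (sum_identity v (fun i j => qL (D' i (f j))) (fun b => qL (lam D b)) fun b i => qL (N b i))
      simp only [c, map_sum, map_mul]
    have hΨω : ∑ b, y b • EGA41Adic.fam k (Bq q 𝔭) L b = 0 := by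
      have h3 := congrArg Ψ hsep
      rw [map_zero, map_sub, map_sum, map_sum] at h3
      rw [Finset.sum_eq_zero (fun j _ => by rw [map_smul, hΨq _ (hfq j), smul_zero]), zero_sub, neg_eq_zero] at h3
      rw [← h3]
      exact Finset.sum_congr rfl fun b _ => by rw [map_smul, hΨf]
    have hy := Fintype.linearIndependent_iff.mp hindB y hΨω
    have hω0 : ω = 0 := by
      rw [sub_eq_zero] at hsep
      rw [hsep]
      exact Finset.sum_eq_zero fun b _ => by rw [hy b, zero_smul]
    exact grad_indep p 𝔭 f hf hlin v fun D => by rw [← hevω, hω0, map_zero]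
  refine ⟨m, fun i => Dk (sel i), f, hfq, hspan, fun hmem => hsel ?_⟩
  show (qL.mapMatrix (Matrix.of fun i j => Dk (sel i) (f j))).det = 0
  rw [← RingHom.map_det]
  exact Ideal.algebraMap_residueField_eq_zero.mpr hmem

end

end Groth.Agent.NagataJac
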