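/-
Derivations over the ground field with invertible Jacobian, in characteristic zero.
-/
import Mathlib
import Groth.Agent.NagataJac.Separate
import Groth.Agent.NagataJac.Rows
import Groth.Agent.S4612

set_option autoImplicit false
set_option linter.style.haveILetI false
set_option backward.isDefEq.respectTransparency false
universe u

open IsLocalRing

namespace Groth.Agent.NagataJac

noncomputable section

/-- Jacobian derivations from regularity in characteristic zero. -/
theorem hasJac_charZero {k K : Type u} [Field k] [Field K] [CharZero K] {r : ℕ} [Algebra k K]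
    (q P : Ideal (MvPowerSeries (Fin r) K)) [P.IsPrime] [(P.map (Ideal.Quotient.mk q)).IsPrime] (hq : q ≤ P)
    (h : IsRegularLocalRing (Bq q P)) : HasJac k (MvPowerSeries (Fin r) K) q P := by
  classical
  let A := MvPowerSeries (Fin r) K
  let C := A ⧸ P
  let L := FractionRing C
  haveI : IsAdicComplete (maximalIdeal A) A := ArtObs.isAdicComplete_ps K r
  haveI : Nontrivial C := Ideal.Quotient.nontrivial_iff.mpr (Ideal.IsPrime.ne_top inferInstance)
  haveI : IsLocalRing C := IsLocalRing.of_surjective' (Ideal.Quotient.mk P) Ideal.Quotient.mk_surjective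
  haveI : IsAdicComplete (maximalIdeal C) C := EGA41FS.isAdicComplete_quotient P
  haveI : Module.Finite K (ResidueField C) := by
    refine Module.Finite.of_surjective (Algebra.linearMap K (ResidueField C)) fun x => ?_
    obtain ⟨y, rfl⟩ := residue_surjective x
    obtain ⟨a, rfl⟩ := Ideal.Quotient.mk_surjective y
    refine ⟨MvPowerSeries.constantCoeff a, ?_⟩
    have hm : Ideal.Quotient.mk P (a - MvPowerSeries.C (MvPowerSeries.constantCoeff a)) ∈ maximalIdeal C := by
      haveI : IsLocalHom (Ideal.Quotient.mk P) := IsLocalHom.of_surjective _ Ideal.Quotient.mk_surjective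
      refine (mem_maximalIdeal _).mpr (map_mem_nonunits_iff (Ideal.Quotient.mk P) _ |>.mpr ?_)
      rw [mem_nonunits_iff, MvPowerSeries.isUnit_iff_constantCoeff]
      simp
    rw [← sub_eq_zero]
    have h0 := (residue_eq_zero_iff _).mpr hm
    rw [map_sub, map_sub, sub_eq_zero] at h0
    rw [h0, Algebra.linearMap_apply, IsScalarTower.algebraMap_apply K C (ResidueField C), sub_eq_zero]
    rfl
  obtain ⟨s, w, hwinj, hwloc, hwfin, hdimC⟩ := EGA418Dim.exists_noether (k := K) (A := C)
  let Q := MvPowerSeries (Fin s) K
  haveI : IsDomain Q := NoZeroDivisors.to_isDomain _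
  let L' := FractionRing Q
  let φ : Q →+* L := (algebraMap C L).comp w.toRingHom
  have hφ : Function.Injective φ := (IsFractionRing.injective C L).comp hwinj
  letI : Algebra L' L := (IsFractionRing.lift (K := L') hφ).toAlgebra
  have hL'L : ∀ f : Q, algebraMap L' L (algebraMap Q L' f) = algebraMap C L (w f) := fun f =>
    IsFractionRing.lift_algebraMap hφ f
  haveI : Module.Finite L' L := by
    letI : Algebra Q C := w.toRingHom.toAlgebra
    have hfinQC : Module.Finite Q C := hwfin
    haveI := hfinQC
    obtain ⟨G, hG⟩ := hfinQC.fg_top
    have hint : ∀ x ∈ (algebraMap C L '' (G : Set C)), IsIntegral L' x := by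
      rintro _ ⟨g, -, rfl⟩
      obtain ⟨f, hf, hf0⟩ := Algebra.IsIntegral.isIntegral (R := Q) g
      refine ⟨f.map (algebraMap Q L'), hf.map _, ?_⟩
      rw [Polynomial.eval₂_map, show (algebraMap L' L).comp (algebraMap Q L') = (algebraMap C L).comp (algebraMap Q C)
        from RingHom.ext hL'L, ← Polynomial.hom_eval₂, hf0, map_zero]
    haveI : Finite (algebraMap C L '' (G : Set C)) := (G.finite_toSet.image _).to_subtype
    let E := IntermediateField.adjoin L' (algebraMap C L '' (G : Set C))
    haveI : FiniteDimensional L' E := IntermediateField.finiteDimensional_adjoin hint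
    have hC : ∀ x : C, algebraMap C L x ∈ E := fun x => by
      have hx : x ∈ Submodule.span Q (G : Set C) := hG ▸ Submodule.mem_top
      induction hx using Submodule.span_induction with
      | mem y hy => exact IntermediateField.subset_adjoin _ _ ⟨y, hy, rfl⟩
      | zero => rw [map_zero]; exact zero_mem _
      | add y z _ _ hy hz => rw [map_add]; exact add_mem hy hz
      | smul a y _ hy =>
        rw [Algebra.smul_def, map_mul, show algebraMap C L (algebraMap Q C a) = algebraMap L' L (algebraMap Q L' a) from
          (hL'L a).symm]
        exact mul_mem (E.algebraMap_mem _) hy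
    have htop : E = ⊤ := eq_top_iff.mpr fun x _ => by
      obtain ⟨a, b, -, rfl⟩ := IsFractionRing.div_surjective C x
      exact div_mem (hC a) (hC b)
    exact Module.Finite.equiv ((IntermediateField.equivOfEq htop).trans IntermediateField.topEquiv).toLinearEquiv
  haveI : CharZero L' := charZero_of_injective_ringHom
    (f := (algebraMap Q L').comp (MvPowerSeries.C (σ := Fin s) (R := K)))
    ((IsFractionRing.injective Q L').comp MvPowerSeries.C_injective)
  haveI : PerfectField L' := PerfectField.ofCharZero
  haveI : Algebra.IsAlgebraic L' L := Algebra.IsAlgebraic.of_finite L' L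
  haveI : Algebra.IsSeparable L' L := Algebra.IsAlgebraic.isSeparable_of_perfectField
  letI : Algebra Q C := w.toRingHom.toAlgebra
  haveI : Module.Finite Q C := hwfin
  haveI : IsScalarTower K Q C := IsScalarTower.of_algebraMap_eq fun c => (w.commutes c).symm
  haveI : IsScalarTower Q L' L := IsScalarTower.of_algebraMap_eq fun f => (hL'L f).symm
  obtain ⟨m, D, f, hf, hspan, hdet⟩ := ((S4612.result r q P hq s hwinj (L' := L') (L := L)).out 2 1).mp h
  exact ⟨m, fun i => (D i).restrictScalars k, f, hf, hspan, hdet⟩

end

end Groth.Agent.NagataJac
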