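/-
Nagata's Jacobian criterion with derivations over the ground field.
-/
import Mathlib
import Groth.Agent.NagataJac.CharP
import Groth.Agent.NagataJac.CharZero
import Groth.Agent.S2452
import Groth.Agent.S9443
import Groth.Agent.Cohen2.Regular

set_option autoImplicit false
set_option linter.style.haveILetI false
set_option backward.isDefEq.respectTransparency false
universe u

open IsLocalRing

namespace Groth.Agent.NagataJac

noncomputable section

variable {k A : Type u} [Field k] [CommRing A] [Algebra k A]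

/-- The image of a prime in the quotient is prime. -/
theorem isPrime_map_mk {R : Type u} [CommRing R] (q P : Ideal R) [P.IsPrime] (h : q ≤ P) :
    (P.map (Ideal.Quotient.mk q)).IsPrime :=
  Ideal.map_isPrime_of_surjective Ideal.Quotient.mk_surjective (by rw [Ideal.mk_ker]; exact h)

/-- Reduction to an isomorphic algebra. -/
theorem hasJac_of_equiv_of {A' : Type u} [CommRing A'] [Algebra k A'] (e : A ≃ₐ[k] A') (q 𝔭 : Ideal A) [𝔭.IsPrime]
    [(𝔭.map (Ideal.Quotient.mk q)).IsPrime] (hq : q ≤ 𝔭)
    (h : CAlgX.IsAdicFormallySmooth k (Bq q 𝔭) (maximalIdeal (Bq q 𝔭)))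
    (h' : ∀ (q' 𝔭' : Ideal A') [𝔭'.IsPrime] [(𝔭'.map (Ideal.Quotient.mk q')).IsPrime], q' ≤ 𝔭' →
      CAlgX.IsAdicFormallySmooth k (Bq q' 𝔭') (maximalIdeal (Bq q' 𝔭')) → HasJac k A' q' 𝔭') :
    HasJac k A q 𝔭 := by
  haveI : (𝔭.map e.toAlgHom.toRingHom).IsPrime :=
    Ideal.map_isPrime_of_surjective e.surjective (by
      rw [(RingHom.injective_iff_ker_eq_bot _).mp e.injective]; exact bot_le)
  haveI := isPrime_map_mk (q.map e.toAlgHom.toRingHom) (𝔭.map e.toAlgHom.toRingHom) (Ideal.map_mono hq)
  exact hasJac_of_algEquiv e q 𝔭 _ _ rfl rfl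
    (h' _ _ (Ideal.map_mono hq) (fs_Bq_of_algEquiv e q 𝔭 _ _ rfl rfl h))

variable [IsLocalRing A] [IsNoetherianRing A] [IsAdicComplete (maximalIdeal A) A]

/-- Formal smoothness of a localised quotient gives derivations with invertible Jacobian. -/
theorem hasJac_of_isAdicFormallySmooth (p : ℕ) [ExpChar k p]
    (hk : p = 1 ∨ Module.Finite (frobenius k p).fieldRange k)
    (hA : CAlgX.IsAdicFormallySmooth k A (maximalIdeal A)) (q 𝔭 : Ideal A) [𝔭.IsPrime]
    [(𝔭.map (Ideal.Quotient.mk q)).IsPrime] (hq : q ≤ 𝔭)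
    (h : CAlgX.IsAdicFormallySmooth k (Bq q 𝔭) (maximalIdeal (Bq q 𝔭))) : HasJac k A q 𝔭 := by
  classical
  haveI : IsRegularLocalRing A := EGA41Adic.isRegularLocalRing_of_isAdicFormallySmooth hA
  let K := ResidueField A
  by_cases hp1 : p = 1
  · subst hp1
    haveI : CharZero k := charZero_of_expChar_one' k
    haveI : PerfectField k := PerfectField.ofCharZero
    haveI : CharZero K := charZero_of_injective_algebraMap (algebraMap k K).injective
    haveI : Algebra.IsGeometricallyReduced k K :=
      Groth.Agent.S2451.result.mp (Groth.Agent.FSField.formallySmooth_of_perfectField k K)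
    obtain ⟨σ, hσ⟩ := Groth.Agent.S2452.result (k := k) (A := A)
    letI : Algebra K A := σ.toRingHom.toAlgebra
    haveI : IsScalarTower k K A := IsScalarTower.of_algebraMap_eq fun c => (σ.commutes c).symm
    obtain ⟨d, ⟨e⟩⟩ := Cohen2.exists_algEquiv A K fun x => ⟨x, hσ x⟩
    refine hasJac_of_equiv_of (e.restrictScalars k) q 𝔭 hq h fun q' P' _ _ hq' h' => ?_
    haveI : IsNoetherianRing (Bq q' P') :=
      IsLocalization.isNoetherianRing (P'.map (Ideal.Quotient.mk q')).primeCompl (Bq q' P') inferInstance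
    exact hasJac_charZero q' P' hq' (EGA41Adic.isRegularLocalRing_of_isAdicFormallySmooth h')
  · have hfin := hk.resolve_left hp1
    have hp : p.Prime := by
      cases ‹ExpChar k p› with
      | zero => exact absurd rfl hp1
      | prime h => exact h
    haveI := Fact.mk hp
    haveI : CharP k p := by
      cases ‹ExpChar k p› with
      | zero => exact absurd rfl hp1
      | prime h => assumption
    haveI : CharP K p := charP_of_injective_algebraMap (algebraMap k K).injective p
    haveI := finite_kaehler p hfin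
    obtain ⟨g, hg⟩ := Cohen2.exists_coefficientField A k
    letI : Algebra K A := g.toAlgebra
    obtain ⟨d, ⟨e0⟩⟩ := Cohen2.exists_algEquiv A K fun x => ⟨x, hg x⟩
    let er := e0.toRingEquiv
    letI : Algebra k (MvPowerSeries (Fin d) K) := (er.toRingHom.comp (algebraMap k A)).toAlgebra
    let e : A ≃ₐ[k] MvPowerSeries (Fin d) K := AlgEquiv.ofRingEquiv (f := er) fun c => rfl
    have hA' : CAlgX.IsAdicFormallySmooth k (MvPowerSeries (Fin d) K) (maximalIdeal (MvPowerSeries (Fin d) K)) :=
      EGA41Adic.isAdicFormallySmooth_of_algEquiv e (by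
        haveI : IsLocalHom e.toAlgHom.toRingHom := IsLocalHom.of_surjective _ e.surjective
        exact IsLocalRing.map_maximalIdeal_of_surjective _ e.surjective) hA
    exact hasJac_of_equiv_of e q 𝔭 hq h fun q' P' _ _ hq' h' =>
      hasJac_charP p (EGA41Adic.indep_of_isAdicFormallySmooth hA') q' P' hq' h'

/-- The Jacobian criterion. -/
theorem isAdicFormallySmooth_iff_hasJac (p : ℕ) [ExpChar k p]
    (hk : p = 1 ∨ Module.Finite (frobenius k p).fieldRange k)
    (hA : CAlgX.IsAdicFormallySmooth k A (maximalIdeal A)) (q 𝔭 : Ideal A) [𝔭.IsPrime]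
    [(𝔭.map (Ideal.Quotient.mk q)).IsPrime] (hq : q ≤ 𝔭) :
    CAlgX.IsAdicFormallySmooth k (Bq q 𝔭) (maximalIdeal (Bq q 𝔭)) ↔ HasJac k A q 𝔭 := by
  refine ⟨hasJac_of_isAdicFormallySmooth p hk hA q 𝔭 hq, fun ⟨m, D, f, hf, hspan, hdet⟩ => ?_⟩
  haveI : IsRegularLocalRing A := EGA41Adic.isRegularLocalRing_of_isAdicFormallySmooth hA
  exact isAdicFormallySmooth_of_jacobian q 𝔭 (EGA41Adic.indep_of_isAdicFormallySmooth hA) hq D f hf hspan hdet

end

end Groth.Agent.NagataJac
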