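/-
Openness of the formally smooth locus of a quotient.
-/
import Mathlib
import Groth.Agent.NagataJac.Main

set_option autoImplicit false
set_option linter.style.haveILetI false
set_option backward.isDefEq.respectTransparency false
universe u

open IsLocalRing

namespace Groth.Agent.NagataJac

noncomputable section

variable {k A : Type u} [Field k] [CommRing A] [Algebra k A] [IsLocalRing A] [IsNoetherianRing A]
  [IsAdicComplete (maximalIdeal A) A]

/-- The criterion at a prime of the quotient. -/
theorem iff_hasJac_at (p : ℕ) [ExpChar k p] (hk : p = 1 ∨ Module.Finite (frobenius k p).fieldRange k)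
    (hA : CAlgX.IsAdicFormallySmooth k A (maximalIdeal A)) (q : Ideal A) (n : Ideal (A ⧸ q)) [n.IsPrime] :
    CAlgX.IsAdicFormallySmooth k (Localization.AtPrime n) (maximalIdeal (Localization.AtPrime n)) ↔
      HasJac k A q (n.comap (Ideal.Quotient.mk q)) := by
  have hq : q ≤ n.comap (Ideal.Quotient.mk q) := fun x hx => by
    rw [Ideal.mem_comap, Ideal.Quotient.eq_zero_iff_mem.mpr hx]; exact zero_mem _
  have hn : n = (n.comap (Ideal.Quotient.mk q)).map (Ideal.Quotient.mk q) :=
    (Ideal.map_comap_of_surjective _ Ideal.Quotient.mk_surjective n).symm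
  have key : ∀ (n' : Ideal (A ⧸ q)) [n'.IsPrime] (P : Ideal A) [P.IsPrime], q ≤ P → n' = P.map (Ideal.Quotient.mk q) →
      (CAlgX.IsAdicFormallySmooth k (Localization.AtPrime n') (maximalIdeal (Localization.AtPrime n')) ↔
        HasJac k A q P) := by
    intro n' _ P _ hP hn'
    subst hn'
    exact isAdicFormallySmooth_iff_hasJac p hk hA q P hP
  exact key n _ hq hn

/-- The formally smooth locus is open. -/
theorem isOpen_smoothLocus (p : ℕ) [ExpChar k p] (hk : p = 1 ∨ Module.Finite (frobenius k p).fieldRange k)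
    (hA : CAlgX.IsAdicFormallySmooth k A (maximalIdeal A)) (q : Ideal A) :
    IsOpen {n : PrimeSpectrum (A ⧸ q) |
      CAlgX.IsAdicFormallySmooth k (Localization.AtPrime n.asIdeal) (maximalIdeal (Localization.AtPrime n.asIdeal))} := by
  classical
  refine isOpen_iff_forall_mem_open.mpr fun n₀ hn₀ => ?_
  obtain ⟨m, D, f, hf, hspan, hdet⟩ := (iff_hasJac_at p hk hA q n₀.asIdeal).mp hn₀
  set P₀ := n₀.asIdeal.comap (Ideal.Quotient.mk q)
  obtain ⟨S, hS⟩ := (IsNoetherian.noetherian q : q.FG)
  have hex : ∀ a : S, ∃ u : A, u ∉ P₀ ∧ u * a ∈ Ideal.span (Set.range f) := fun a => by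
    have h1 : algebraMap A (Localization.AtPrime P₀) a ∈ (Ideal.span (Set.range f)).map (algebraMap A (Localization.AtPrime P₀)) := by
      rw [Ideal.map_span, ← Set.range_comp]
      show _ ∈ Ideal.span (Set.range fun i => algebraMap A (Localization.AtPrime P₀) (f i))
      rw [← hspan]
      exact Ideal.mem_map_of_mem _ (hS ▸ Submodule.subset_span a.2)
    rw [IsLocalization.algebraMap_mem_map_algebraMap_iff P₀.primeCompl (Localization.AtPrime P₀)] at h1
    obtain ⟨u, hu, hua⟩ := h1
    exact ⟨u, hu, hua⟩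
  choose u hu hua using hex
  let s := Matrix.det (Matrix.of fun i j => D i (f j)) * ∏ a : S, u a
  refine ⟨(PrimeSpectrum.basicOpen (Ideal.Quotient.mk q s) : Set (PrimeSpectrum (A ⧸ q))), fun n hn => ?_,
    (PrimeSpectrum.basicOpen _).2, ?_⟩
  · have hs : s ∉ n.asIdeal.comap (Ideal.Quotient.mk q) := hn
    refine (iff_hasJac_at p hk hA q n.asIdeal).mpr ⟨m, D, f, hf, le_antisymm ?_ ?_,
      fun h => hs (Ideal.mul_mem_right _ _ h)⟩
    · refine Ideal.map_le_iff_le_comap.mpr (hS.symm.le.trans (Submodule.span_le.mpr ?_))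
      intro a ha
      have hua' : IsUnit (algebraMap A (Localization.AtPrime (n.asIdeal.comap (Ideal.Quotient.mk q))) (u ⟨a, ha⟩)) :=
        IsLocalization.map_units _ (⟨u ⟨a, ha⟩, fun h => hs (Ideal.mul_mem_left _ _
          (Ideal.mem_of_dvd _ (Finset.dvd_prod_of_mem u (Finset.mem_univ ⟨a, ha⟩)) h))⟩ :
            (n.asIdeal.comap (Ideal.Quotient.mk q)).primeCompl)
      show algebraMap A (Localization.AtPrime (n.asIdeal.comap (Ideal.Quotient.mk q))) a ∈
        Ideal.span (Set.range fun i => algebraMap A (Localization.AtPrime (n.asIdeal.comap (Ideal.Quotient.mk q))) (f i))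
      refine (Ideal.unit_mul_mem_iff_mem _ hua').mp ?_
      have h2 := Ideal.mem_map_of_mem (algebraMap A (Localization.AtPrime (n.asIdeal.comap (Ideal.Quotient.mk q))))
        (hua ⟨a, ha⟩)
      rw [Ideal.map_span, ← Set.range_comp, map_mul] at h2
      exact h2
    · rw [Ideal.span_le]
      rintro _ ⟨i, rfl⟩
      exact Ideal.mem_map_of_mem _ (hf i)
  · show s ∉ P₀
    refine fun h => ((Ideal.IsPrime.mem_or_mem inferInstance h).elim hdet fun h' => ?_)
    obtain ⟨a, -, ha⟩ := (Ideal.IsPrime.prod_mem_iff (p := P₀)).mp h'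
    exact hu a ha

end

end Groth.Agent.NagataJac
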